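import Cfsg.Agent.H43.Glauberman
import Cfsg.Agent.H43.Constituents
import Cfsg.Agent.H19.MinimalNormal

/-!
# Coprime action of a solvable group: invariant characters and invariant classes
-/

namespace Cfsg.Agent.H43

open scoped ComplexConjugate

variable {S G : Type*} [Group S] [Group G]

/-- The subgroup of fixed points of `T ≤ S`. -/
def fixedSub (φ : S →* MulAut G) (T : Subgroup S) : Subgroup G where
  carrier := {g | ∀ t ∈ T, φ t g = g}
  one_mem' := fun t _ => map_one (φ t)
  mul_mem' := fun ha hb t ht => by rw [map_mul, ha t ht, hb t ht]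
  inv_mem' := fun ha t ht => by rw [map_inv, ha t ht]

theorem mem_fixedSub {φ : S →* MulAut G} {T : Subgroup S} {g : G} :
    g ∈ fixedSub φ T ↔ ∀ t ∈ T, φ t g = g := Iff.rfl

theorem aut_apply_apply (φ : S →* MulAut G) (s t : S) (g : G) : φ s (φ t g) = φ (s * t) g := by
  rw [map_mul]; rfl

theorem fixedSub_invariant (φ : S →* MulAut G) (T : Subgroup S) [T.Normal] (s : S) (g : G)
    (hg : g ∈ fixedSub φ T) : φ s g ∈ fixedSub φ T := by
  intro t ht
  have h := hg (s⁻¹ * t * s) (by simpa using Subgroup.Normal.conj_mem inferInstance t ht s⁻¹)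
  rw [aut_apply_apply, show t * s = s * (s⁻¹ * t * s) by group, ← aut_apply_apply, h]

/-- An action leaving a subgroup invariant restricts to it. -/
def restrictAut (φ : S →* MulAut G) (K : Subgroup G) (hK : ∀ s, ∀ g ∈ K, φ s g ∈ K) :
    S →* MulAut K where
  toFun s :=
    { toFun := fun g => ⟨φ s g, hK s g g.2⟩
      invFun := fun g => ⟨φ s⁻¹ g, hK s⁻¹ g g.2⟩
      left_inv := fun g => Subtype.ext (by simp)
      right_inv := fun g => Subtype.ext (by simp)
      map_mul' := fun g h => Subtype.ext (by simp) }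
  map_one' := MulEquiv.ext fun g => Subtype.ext (by simp)
  map_mul' s t := MulEquiv.ext fun g => Subtype.ext (by simp)

theorem restrictAut_coe (φ : S →* MulAut G) (K : Subgroup G) (hK : ∀ s, ∀ g ∈ K, φ s g ∈ K)
    (s : S) (g : K) : ((restrictAut φ K hK s g : K) : G) = φ s g := rfl

theorem restrictAut_fixedSub_eq_one (φ : S →* MulAut G) (T : Subgroup S) [T.Normal] :
    T ≤ (restrictAut φ (fixedSub φ T) (fixedSub_invariant φ T)).ker := fun t ht =>
  MulEquiv.ext fun g => Subtype.ext (g.2 t ht)

/-- The action of the quotient on the fixed points of a normal subgroup. -/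
def quotAut (φ : S →* MulAut G) (T : Subgroup S) [T.Normal] :
    S ⧸ T →* MulAut (fixedSub φ T) :=
  QuotientGroup.lift T (restrictAut φ (fixedSub φ T) (fixedSub_invariant φ T))
    (restrictAut_fixedSub_eq_one φ T)

theorem quotAut_mk (φ : S →* MulAut G) (T : Subgroup S) [T.Normal] (s : S)
    (g : fixedSub φ T) : ((quotAut φ T (QuotientGroup.mk s) g : fixedSub φ T) : G) = φ s g := rfl

/-- Glauberman data on an invariant subgroup. -/
theorem glaubermanData_restrict [Finite G] (φ : S →* MulAut G) (T : Subgroup S) {p : ℕ}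
    (hp : p.Prime) (hT : IsPGroup p T) (hG : ¬ p ∣ Nat.card G) :
    GlaubermanData p (φ.comp T.subtype) (fixedSub φ T).subtype :=
  ⟨hp, hT, hG, Subgroup.subtype_injective _, fun _ =>
    ⟨fun h => ⟨⟨_, fun t ht => h ⟨t, ht⟩⟩, rfl⟩, fun ⟨c, hc⟩ t => hc ▸ c.2 t t.2⟩⟩

/-- The inclusion of `N ⊓ C` in `N`. -/
def subInclusion (N C : Subgroup G) : (N.subgroupOf C : Subgroup C) →* N :=
  (C.subtype.comp (N.subgroupOf C).subtype).codRestrict N fun d => d.2

theorem glaubermanData_restrict_normal [Finite G] (φ : S →* MulAut G) (T : Subgroup S)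
    (N : Subgroup G) (hN : ∀ s, ∀ n ∈ N, φ s n ∈ N) {p : ℕ}
    (hp : p.Prime) (hT : IsPGroup p T) (hG : ¬ p ∣ Nat.card G) :
    GlaubermanData p ((restrictAut φ N hN).comp T.subtype) (subInclusion N (fixedSub φ T)) := by
  refine ⟨hp, hT, fun h => hG (h.trans (Subgroup.card_subgroup_dvd_card N)), ?_, fun n => ⟨?_, ?_⟩⟩
  · intro a b h
    exact Subtype.ext (Subtype.ext (congrArg (fun x : N => (x : G)) h))
  · intro h
    exact ⟨⟨⟨n, fun t ht => congrArg Subtype.val (h ⟨t, ht⟩)⟩, n.2⟩, Subtype.ext rfl⟩
  · rintro ⟨c, rfl⟩ t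
    exact Subtype.ext (c.1.2 t t.2)

/-- Compatible automorphisms preserve multiplicities. -/
theorem resMult_congr {C : Type*} [Group C] [Fintype C] (ι : C →* G) (α : MulAut G) (α' : MulAut C)
    (h : ∀ c, ι (α' c) = α (ι c)) (χ : Cfsg.IrrCharacter G) (β : Cfsg.IrrCharacter C) :
    resMult ι (irrCongr α χ) (irrCongr α' β) = resMult ι χ β := by
  unfold resMult mult
  congr 2
  rw [← classInner_congr α' (fun c => χ.1 (ι c)) β.1]
  congr 2
  funext c
  rw [h]
  rfl

/-- For `T` normal, the conjugates of a `T`-invariant character are `T`-invariant. -/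
theorem invFun_irrCongr (φ : S →* MulAut G) (T : Subgroup S) [T.Normal] (s : S)
    (χ : Cfsg.IrrCharacter G) (h : InvFun (φ.comp T.subtype) χ.1) :
    InvFun (φ.comp T.subtype) (irrCongr (φ s) χ).1 := by
  rintro ⟨t, ht⟩ g
  show χ.1 (φ s (φ t g)) = χ.1 (φ s g)
  rw [aut_apply_apply, show s * t = s * t * s⁻¹ * s by group, ← aut_apply_apply]
  exact h ⟨s * t * s⁻¹, Subgroup.Normal.conj_mem inferInstance t ht s⟩ (φ s g)

theorem invFun_comp_subtype {φ : S →* MulAut G} {f : G → ℂ} (h : InvFun φ f) (T : Subgroup S) :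
    InvFun (φ.comp T.subtype) f := fun t g => h t g

theorem irrCongr_eq_self_of_invFun {φ : S →* MulAut G} {χ : Cfsg.IrrCharacter G}
    (h : InvFun φ χ.1) (s : S) : irrCongr (φ s) χ = χ :=
  Subtype.ext (funext fun g => h s g)

/-- A class invariant under the action. -/
def InvClass (φ : S →* MulAut G) (K : ConjClasses G) : Prop :=
  ∀ (s : S) (g : G), ConjClasses.mk g = K → ConjClasses.mk (φ s g) = K

section Step

variable [Fintype G] (φ : S →* MulAut G) (T : Subgroup S) [T.Normal] {p : ℕ}

/-- Invariant characters of `G` correspond to invariant characters of the fixed points. -/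
theorem card_invFun_step (hp : p.Prime) (hT : IsPGroup p T) (hG : ¬ p ∣ Nat.card G) :
    Nat.card {χ : Cfsg.IrrCharacter G // InvFun φ χ.1} =
      Nat.card {β : Cfsg.IrrCharacter (fixedSub φ T) // InvFun (quotAut φ T) β.1} := by
  classical
  haveI : Fintype (fixedSub φ T) := Fintype.ofFinite _
  have hd := glaubermanData_restrict φ T hp hT hG
  have hex : ∀ χ : {χ : Cfsg.IrrCharacter G // InvFun φ χ.1},
      ∃ β : Cfsg.IrrCharacter (fixedSub φ T), ¬ p ∣ resMult (fixedSub φ T).subtype χ.1 β :=
    fun χ => (hd.existsUnique χ.1 (invFun_comp_subtype χ.2 T)).exists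
  choose F hF using hex
  have hinvF : ∀ χ, InvFun (quotAut φ T) (F χ).1 := by
    intro χ q
    obtain ⟨s, rfl⟩ := QuotientGroup.mk_surjective q
    intro c
    have h1 := resMult_congr (fixedSub φ T).subtype (φ s) (quotAut φ T (QuotientGroup.mk s))
      (fun c => rfl) χ.1 (F χ)
    rw [irrCongr_eq_self_of_invFun χ.2 s] at h1
    obtain ⟨b, -, hu⟩ := hd.existsUnique χ.1 (invFun_comp_subtype χ.2 T)
    have h2 : irrCongr (quotAut φ T (QuotientGroup.mk s)) (F χ) = F χ :=
      (hu _ (fun h => hF χ (h1 ▸ h))).trans (hu _ (hF χ)).symm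
    exact congrFun (congrArg Subtype.val h2) c
  refine Nat.card_eq_of_bijective (fun χ => ⟨F χ, hinvF χ⟩) ⟨?_, ?_⟩
  · intro χ ψ h
    by_contra hne
    have h' : F χ = F ψ := congrArg Subtype.val h
    rcases hd.disjoint (invFun_comp_subtype χ.2 T) (invFun_comp_subtype ψ.2 T)
      (fun e => hne (Subtype.ext e)) (F χ) with h1 | h1
    · exact hF χ h1
    · exact hF ψ (h' ▸ h1)
  · rintro ⟨β, hβ⟩
    obtain ⟨χ, hχ, hm⟩ := hd.exists_of_res β
    have hχinv : InvFun φ χ.1 := by
      intro s g
      have h1 := resMult_congr (fixedSub φ T).subtype (φ s) (quotAut φ T (QuotientGroup.mk s))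
        (fun c => rfl) χ β
      rw [irrCongr_eq_self_of_invFun hβ (QuotientGroup.mk s)] at h1
      have h2 : irrCongr (φ s) χ = χ := by
        by_contra hne
        rcases hd.disjoint (invFun_irrCongr φ T s χ hχ) hχ hne β with h3 | h3
        · exact hm (h1 ▸ h3)
        · exact hm h3
      exact congrFun (congrArg Subtype.val h2) g
    refine ⟨⟨χ, hχinv⟩, Subtype.ext ?_⟩
    obtain ⟨b, -, hu⟩ := hd.existsUnique χ hχ
    exact (hu _ (hF ⟨χ, hχinv⟩)).trans (hu _ hm).symm

/-- Invariant classes of `G` correspond to invariant classes of the fixed points. -/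
theorem card_invClass_step (hp : p.Prime) (hT : IsPGroup p T) (hG : ¬ p ∣ Nat.card G) :
    Nat.card {K : ConjClasses G // InvClass φ K} =
      Nat.card {L : ConjClasses (fixedSub φ T) // InvClass (quotAut φ T) L} := by
  have hd := glaubermanData_restrict φ T hp hT hG
  have hinv : ∀ L : {L : ConjClasses (fixedSub φ T) // InvClass (quotAut φ T) L},
      InvClass φ (ConjClasses.map (fixedSub φ T).subtype L.1) := by
    rintro ⟨L, hL⟩ s g hg
    obtain ⟨c, rfl⟩ := ConjClasses.exists_rep L
    have h1 : IsConj g (c : G) := ConjClasses.mk_eq_mk_iff_isConj.mp hg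
    have h2 := hL (QuotientGroup.mk s) c rfl
    refine ConjClasses.mk_eq_mk_iff_isConj.mpr
      (((φ s).toMonoidHom.map_isConj h1).trans ?_)
    exact (fixedSub φ T).subtype.map_isConj (ConjClasses.mk_eq_mk_iff_isConj.mp h2)
  refine (Nat.card_eq_of_bijective (fun L => ⟨_, hinv L⟩) ⟨?_, ?_⟩).symm
  · rintro ⟨L, hL⟩ ⟨L', hL'⟩ h
    obtain ⟨c, rfl⟩ := ConjClasses.exists_rep L
    obtain ⟨c', rfl⟩ := ConjClasses.exists_rep L'
    exact Subtype.ext (ConjClasses.mk_eq_mk_iff_isConj.mpr
      (hd.isConj_of_isConj (ConjClasses.mk_eq_mk_iff_isConj.mp (congrArg Subtype.val h))))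
  · rintro ⟨K, hK⟩
    obtain ⟨g, rfl⟩ := ConjClasses.exists_rep K
    obtain ⟨c, hc⟩ := hd.exists_isConj (g := g) fun t =>
      (ConjClasses.mk_eq_mk_iff_isConj.mp (hK t g rfl)).symm
    refine ⟨⟨ConjClasses.mk c, ?_⟩, Subtype.ext (ConjClasses.mk_eq_mk_iff_isConj.mpr hc.symm)⟩
    intro q d hd'
    obtain ⟨s, rfl⟩ := QuotientGroup.mk_surjective q
    have h1 : IsConj d c := ConjClasses.mk_eq_mk_iff_isConj.mp hd'
    have h2 : IsConj (φ s (d : G)) (c : G) := by
      have h3 := ConjClasses.mk_eq_mk_iff_isConj.mp (hK s (d : G)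
        (ConjClasses.mk_eq_mk_iff_isConj.mpr
          (((fixedSub φ T).subtype.map_isConj h1).trans hc.symm)))
      exact h3.trans hc
    exact ConjClasses.mk_eq_mk_iff_isConj.mpr (hd.isConj_of_isConj h2)

end Step

/-- A nontrivial finite solvable group has a nontrivial normal `p`-subgroup. -/
theorem exists_normal_pSubgroup [Finite S] [Nontrivial S] (hs : Group.IsSolvable S) :
    ∃ (T : Subgroup S) (p : ℕ), T.Normal ∧ p.Prime ∧ IsPGroup p T ∧ p ∣ Nat.card S ∧
      Nat.card (S ⧸ T) < Nat.card S := by
  haveI : Group.IsSolvable S := hs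
  obtain ⟨T, p, hT, -, hne, -, hp, hpT, -⟩ :=
    H19.exists_normal_elementary_le (⊤ : Subgroup S) inferInstance top_ne_bot
  haveI : Fact p.Prime := ⟨hp⟩
  haveI : Nontrivial T := (Subgroup.nontrivial_iff_ne_bot T).mpr hne
  obtain ⟨k, hk0, hk⟩ := (IsPGroup.nontrivial_iff_card hpT).mp inferInstance
  refine ⟨T, p, hT, hp, hpT, (hk ▸ dvd_pow_self p hk0.ne').trans
    (Subgroup.card_subgroup_dvd_card T), ?_⟩
  rw [Subgroup.card_eq_card_quotient_mul_card_subgroup T]
  refine lt_mul_of_one_lt_right Nat.card_pos ?_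
  rw [hk]
  exact Nat.one_lt_pow hk0.ne' hp.one_lt

theorem card_invFun_eq_card_invClass.{u, v} :
    ∀ (n : ℕ) {G : Type u} [Group G] [Finite G] {S : Type v} [Group S] [Finite S],
      Nat.card S = n → Group.IsSolvable S → (Nat.card G).Coprime (Nat.card S) →
      ∀ φ : S →* MulAut G,
      Nat.card {χ : Cfsg.IrrCharacter G // InvFun φ χ.1} =
        Nat.card {K : ConjClasses G // InvClass φ K} := by
  intro n
  induction n using Nat.strong_induction_on with
  | _ n ih =>
    intro G _ _ S _ _ hn hs hcop φ
    subst hn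
    haveI : Fintype G := Fintype.ofFinite G
    rcases subsingleton_or_nontrivial S with hS | hS
    · rw [Nat.card_congr (Equiv.subtypeUnivEquiv (p := fun χ : Cfsg.IrrCharacter G => InvFun φ χ.1)
          fun χ => ?_),
        Nat.card_congr (Equiv.subtypeUnivEquiv (p := fun K : ConjClasses G => InvClass φ K)
          fun K => ?_), H26.card_irr_eq_card_conjClasses]
      · intro s g hg
        rwa [Subsingleton.elim s 1, map_one]
      · intro s g
        rw [Subsingleton.elim s 1, map_one]
        rfl
    · obtain ⟨T, p, hT, hp, hpT, hdvd, hlt⟩ := exists_normal_pSubgroup (S := S) hs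
      haveI := hT
      have hG : ¬ p ∣ Nat.card G := fun h =>
        Nat.not_coprime_of_dvd_of_dvd hp.one_lt h hdvd hcop
      rw [card_invFun_step φ T hp hpT hG, card_invClass_step φ T hp hpT hG]
      refine ih _ hlt rfl ?_ ?_ _
      · haveI : Group.IsSolvable S := hs
        infer_instance
      · exact Nat.Coprime.coprime_dvd_left (Subgroup.card_subgroup_dvd_card _)
          (Nat.Coprime.coprime_dvd_right
            (by rw [Subgroup.card_eq_card_quotient_mul_card_subgroup T]; exact dvd_mul_right _ _)
            hcop)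

/-- Invariant characters lie below invariant characters (coprime solvable operator group). -/
theorem exists_invFun_above.{u, v} :
    ∀ (n : ℕ) {G : Type u} [Group G] [Fintype G] {S : Type v} [Group S] [Finite S],
      Nat.card S = n → Group.IsSolvable S → (Nat.card G).Coprime (Nat.card S) →
      ∀ (φ : S →* MulAut G) (N : Subgroup G) [N.Normal] [Fintype N]
        (hN : ∀ s, ∀ g ∈ N, φ s g ∈ N) (θ : Cfsg.IrrCharacter N),
        InvFun (restrictAut φ N hN) θ.1 →
        ∃ χ : Cfsg.IrrCharacter G, InvFun φ χ.1 ∧ restrMult N χ θ ≠ 0 := by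
  intro n
  induction n using Nat.strong_induction_on with
  | _ n ih =>
    intro G _ _ S _ _ hn hs hcop φ N _ _ hN θ hθ
    subst hn
    classical
    rcases subsingleton_or_nontrivial S with hS | hS
    · obtain ⟨χ, hχ⟩ := exists_above N θ
      exact ⟨χ, fun s g => by rw [Subsingleton.elim s 1, map_one]; rfl, hχ⟩
    · obtain ⟨T, p, hT, hp, hpT, hdvd, hlt⟩ := exists_normal_pSubgroup (S := S) hs
      haveI := hT
      haveI : Fact p.Prime := ⟨hp⟩
      have hG : ¬ p ∣ Nat.card G := fun h =>
        Nat.not_coprime_of_dvd_of_dvd hp.one_lt h hdvd hcop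
      set C := fixedSub φ T with hC
      haveI : Fintype C := Fintype.ofFinite _
      haveI : Fintype (N.subgroupOf C) := Fintype.ofFinite _
      have hdC := glaubermanData_restrict φ T hp hpT hG
      have hdN := glaubermanData_restrict_normal φ T N hN hp hpT hG
      have hND : ∀ q, ∀ g ∈ N.subgroupOf C, quotAut φ T q g ∈ N.subgroupOf C := by
        intro q g hg
        obtain ⟨s, rfl⟩ := QuotientGroup.mk_surjective q
        exact hN s g hg
      obtain ⟨δ, hδ, hδu⟩ := hdN.existsUnique θ (invFun_comp_subtype hθ T)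
      have hδinv : InvFun (restrictAut (quotAut φ T) (N.subgroupOf C) hND) δ.1 := by
        intro q
        obtain ⟨s, rfl⟩ := QuotientGroup.mk_surjective q
        intro c
        have h1 := resMult_congr (subInclusion N C) (restrictAut φ N hN s)
          (restrictAut (quotAut φ T) (N.subgroupOf C) hND (QuotientGroup.mk s)) (fun c => rfl) θ δ
        rw [irrCongr_eq_self_of_invFun hθ s] at h1
        exact congrFun (congrArg Subtype.val (hδu _ (fun h => hδ (h1 ▸ h)))) c
      obtain ⟨γ, hγ, hγδ⟩ := ih _ hlt rfl (by haveI : Group.IsSolvable S := hs; infer_instance)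
        (Nat.Coprime.coprime_dvd_left (Subgroup.card_subgroup_dvd_card _)
          (Nat.Coprime.coprime_dvd_right
            (by rw [Subgroup.card_eq_card_quotient_mul_card_subgroup T]; exact dvd_mul_right _ _)
            hcop)) (quotAut φ T) (N.subgroupOf C) hND δ hδinv
      have he : ¬ p ∣ restrMult (N.subgroupOf C) γ δ := fun h => hdC.not_dvd
        ((h.trans (dvd_mul_right _ _)).trans ((restrMult_mul_degree_dvd _ γ hγδ).trans
          (irr_charDegree_dvd γ)))
      obtain ⟨χ, hχ, hm⟩ := hdC.exists_of_res γ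
      have hχinv : InvFun φ χ.1 := by
        intro s g
        have h1 := resMult_congr C.subtype (φ s) (quotAut φ T (QuotientGroup.mk s))
          (fun c => rfl) χ γ
        rw [irrCongr_eq_self_of_invFun hγ (QuotientGroup.mk s)] at h1
        have h2 : irrCongr (φ s) χ = χ := by
          by_contra hne
          rcases hdC.disjoint (invFun_irrCongr φ T s χ hχ) hχ hne γ with h3 | h3
          · exact hm (h1 ▸ h3)
          · exact hm h3
        exact congrFun (congrArg Subtype.val h2) g
      refine ⟨χ, hχinv, fun h0 => ?_⟩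
      -- two computations of the multiplicity of `δ` in the restriction of `χ`
      have h1 := mult_comp (subInclusion N C) (isCharacter_restr N χ) δ
      have h2 := mult_comp (N.subgroupOf C).subtype (isCharacter_res (ι := C.subtype) χ) δ
      have h12 : (fun d => (fun n : N => χ.1 n) (subInclusion N C d)) =
          fun d => (fun c => χ.1 (C.subtype c)) ((N.subgroupOf C).subtype d) := rfl
      rw [h12, h2] at h1
      -- left side is prime to `p`
      have hL : ¬ p ∣ ∑ β : Cfsg.IrrCharacter C,
          mult (fun c => χ.1 (C.subtype c)) β *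
            mult (fun d => β.1 ((N.subgroupOf C).subtype d)) δ := by
        rw [← Finset.add_sum_erase _ _ (Finset.mem_univ γ)]
        intro h
        have h4 : p ∣ ∑ β ∈ Finset.univ.erase γ,
            mult (fun c => χ.1 (C.subtype c)) β *
              mult (fun d => β.1 ((N.subgroupOf C).subtype d)) δ := by
          refine Finset.dvd_sum fun β hβ => Dvd.dvd.mul_right ?_ _
          by_contra hβ'
          obtain ⟨b, -, hu⟩ := hdC.existsUnique χ hχ
          exact (Finset.mem_erase.mp hβ).1 ((hu β hβ').trans (hu γ hm).symm)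
        rcases hp.dvd_mul.mp ((Nat.dvd_add_left h4).mp h) with h5 | h5
        · exact hm h5
        · exact he h5
      apply hL
      rw [h1]
      -- right side is divisible by `p`
      refine IntCong.nat_dvd hp.ne_zero ?_
      rw [Nat.cast_sum]
      let := irrAction ((restrictAut φ N hN).comp T.subtype)
      refine (IntCong.sum_fixedPoints (S := T) hpT _
        (fun η => isIntegral_natCast _) ?_).trans ?_
      · intro t η
        congr 2
        · show mult (fun n : N => χ.1 n) (irrCongr _ η) = _
          unfold mult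
          congr 2
          rw [← classInner_congr ((restrictAut φ N hN) (T.subtype t⁻¹))
            (fun n : N => χ.1 n) η.1]
          congr 2
          funext n
          exact (hχinv _ _).symm
        · unfold mult
          congr 3
          funext d
          exact congrArg η.1 (hdN.fixed_apply t⁻¹ d)
      · conv_rhs => rw [← Finset.sum_const_zero (ι := Cfsg.IrrCharacter N)
          (s := Finset.univ.filter fun η => η ∈ MulAction.fixedPoints T (Cfsg.IrrCharacter N))]
        refine IntCong.sum _ _ _ fun η hη => ?_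
        have hηinv := (mem_fixedPoints_irrAction _ η).mp (Finset.mem_filter.mp hη).2
        rcases eq_or_ne η θ with rfl | hne
        · rw [show mult (fun n : N => χ.1 n) η = 0 from h0, zero_mul, Nat.cast_zero]
          exact IntCong.refl p 0
        · rcases hdN.disjoint hηinv (invFun_comp_subtype hθ T) hne δ with h5 | h5
          · rw [← mul_one ((_ * _ : ℕ) : ℂ)]
            exact IntCong.natCast_mul_zero (Dvd.dvd.mul_left h5 _) isIntegral_one
          · exact absurd h5 hδ

end Cfsg.Agent.H43
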