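import Cfsg.Agent.H43.SubConj
import Cfsg.Agent.H43.LinearTwist
import Cfsg.Agent.H27.Dual

/-!
# Invariant characters above invariant characters, solvable coprime section
-/

namespace Cfsg.Agent.H43

open scoped ComplexConjugate commutatorElement

theorem mult_self_eq_one {N : Type*} [Group N] [Fintype N] (θ : Cfsg.IrrCharacter N) :
    mult θ.1 θ = 1 := by
  classical
  exact mult_eq_of_classInner (by rw [H26.classInner_irr, if_pos rfl, Nat.cast_one])

theorem mult_ne_zero_comp {N D : Type*} [Group N] [Fintype N] [Group D] [Fintype D]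
    (j : D →* N) {φ : N → ℂ} (hφ : Cfsg.IsCharacter N φ) {η : Cfsg.IrrCharacter N}
    {δ : Cfsg.IrrCharacter D} (h : mult φ η ≠ 0)
    (h' : mult (fun d => η.1 (j d)) δ ≠ 0) : mult (fun d => φ (j d)) δ ≠ 0 := by
  classical
  rw [mult_comp j hφ δ]
  exact (Finset.sum_pos' (fun _ _ => Nat.zero_le _)
    ⟨η, Finset.mem_univ _, Nat.mul_pos (Nat.pos_of_ne_zero h) (Nat.pos_of_ne_zero h')⟩).ne'

theorem mult_ne_zero_of_eq {N : Type*} [Group N] [Fintype N] {φ ψ : N → ℂ}
    {θ : Cfsg.IrrCharacter N} (h : ∀ n, φ n = ψ n) (hm : mult ψ θ ≠ 0) : mult φ θ ≠ 0 := by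
  rwa [funext h]

theorem irrTwist_mul {G : Type*} [Group G] [Fintype G] (χ : Cfsg.IrrCharacter G)
    (a b : G →* ℂˣ) : irrTwist (irrTwist χ a) b = irrTwist χ (a * b) :=
  Subtype.ext (funext fun g => by
    rw [irrTwist_apply, irrTwist_apply, irrTwist_apply, MonoidHom.mul_apply, Units.val_mul,
      mul_assoc])

/-- With an abelian section, the characters above one character differ by twists. -/
theorem exists_twist_of_abelian {G : Type*} [Group G] [Fintype G] (M : Subgroup G) [M.Normal]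
    [Fintype M] (hM : commutator G ≤ M) (χ χ' : Cfsg.IrrCharacter G) (ψ : Cfsg.IrrCharacter M)
    (h : restrMult M χ ψ ≠ 0) (h' : restrMult M χ' ψ ≠ 0) :
    ∃ f : G →* ℂˣ, (∀ m ∈ M, f m = 1) ∧ χ' = irrTwist χ f := by
  classical
  haveI hc : IsMulCommutative (G ⧸ M) := ⟨⟨fun a b => by
    obtain ⟨a, rfl⟩ := QuotientGroup.mk_surjective a
    obtain ⟨b, rfl⟩ := QuotientGroup.mk_surjective b
    rw [← QuotientGroup.mk_mul, ← QuotientGroup.mk_mul, QuotientGroup.eq]
    refine hM ?_
    rw [show (a * b)⁻¹ * (b * a) = ⁅b⁻¹, a⁻¹⁆ by group, commutator_def]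
    exact Subgroup.commutator_mem_commutator (Subgroup.mem_top _) (Subgroup.mem_top _)⟩⟩
  suffices ∃ μ : (G ⧸ M) →* ℂˣ, χ' = irrTwist χ (μ.comp (QuotientGroup.mk' M)) by
    obtain ⟨μ, hμ⟩ := this
    exact ⟨_, fun m hm => by
      rw [MonoidHom.comp_apply, QuotientGroup.mk'_apply, (QuotientGroup.eq_one_iff m).mpr hm,
        map_one], hμ⟩
  by_contra hne
  push Not at hne
  have h0 : ∀ μ : (G ⧸ M) →* ℂˣ,
      ∑ g, χ'.1 g * conj (χ.1 g) * conj (μ (g : G ⧸ M) : ℂ) = 0 := fun μ => by
    have h1 := sum_mul_conj χ' (irrTwist χ (μ.comp (QuotientGroup.mk' M)))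
    rw [if_neg (hne μ)] at h1
    rw [← h1]
    exact Finset.sum_congr rfl fun g _ => by
      rw [irrTwist_apply, map_mul, mul_assoc]; rfl
  have hsum := Finset.sum_eq_zero (s := Finset.univ) fun μ (_ : μ ∈ Finset.univ) => h0 μ
  rw [Finset.sum_comm] at hsum
  have hstep : ∀ g : G, ∑ μ : (G ⧸ M) →* ℂˣ, χ'.1 g * conj (χ.1 g) * conj (μ (g : G ⧸ M) : ℂ) =
      if g ∈ M then χ'.1 g * conj (χ.1 g) * (Nat.card (G ⧸ M) : ℂ) else 0 := fun g => by
    rw [← Finset.mul_sum, ← map_sum, H27.sum_linear_apply]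
    by_cases hg : g ∈ M
    · rw [if_pos hg, if_pos ((QuotientGroup.eq_one_iff g).mpr hg), Complex.conj_natCast]
    · rw [if_neg hg, if_neg fun e => hg ((QuotientGroup.eq_one_iff g).mp e), map_zero, mul_zero]
  simp_rw [hstep] at hsum
  rw [← Finset.sum_filter, ← Finset.sum_mul, Finset.sum_subtype (Finset.univ.filter (· ∈ M))
    (p := fun g => g ∈ M) (fun g => by simp)] at hsum
  have h2 : ∑ m : M, χ'.1 (m : G) * conj (χ.1 (m : G)) = 0 :=
    (mul_eq_zero.mp hsum).resolve_right (Nat.cast_ne_zero.mpr Nat.card_pos.ne')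
  -- expand in constituents
  have h3 : ∑ m : M, χ'.1 (m : G) * conj (χ.1 (m : G)) =
      (Nat.card M : ℂ) * ∑ η : Cfsg.IrrCharacter M,
        ((restrMult M χ η * restrMult M χ' η : ℕ) : ℂ) := by
    have he : ∀ m : M, χ.1 (m : G) = ∑ η : Cfsg.IrrCharacter M, (restrMult M χ η : ℂ) * η.1 m :=
      fun m => by
        have := congrFun (eq_sum_mult (isCharacter_restr M χ)) m
        rw [Finset.sum_apply] at this
        exact this
    simp_rw [he, map_sum, Finset.mul_sum]
    rw [Finset.sum_comm]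
    refine Finset.sum_congr rfl fun η _ => ?_
    rw [show ∀ (a b : ℕ) (c : ℂ), c * ((a * b : ℕ) : ℂ) = (a : ℂ) * (c * (b : ℂ)) from
      fun a b c => by push_cast; ring, ← sum_restr_mul_conj, Finset.mul_sum]
    exact Finset.sum_congr rfl fun m _ => by
      rw [map_mul, Complex.conj_natCast]; ring
  rw [h3, ← Nat.cast_sum] at h2
  have h4 : (∑ η : Cfsg.IrrCharacter M, restrMult M χ η * restrMult M χ' η) = 0 :=
    Nat.cast_eq_zero.mp ((mul_eq_zero.mp h2).resolve_left
      (Nat.cast_ne_zero.mpr Nat.card_pos.ne'))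
  exact mul_ne_zero h h' (Finset.sum_eq_zero_iff.mp h4 ψ (Finset.mem_univ ψ))

theorem irrTwist_one {G : Type*} [Group G] [Fintype G] (χ : Cfsg.IrrCharacter G) :
    irrTwist χ 1 = χ :=
  Subtype.ext (funext fun g => by
    rw [irrTwist_apply, MonoidHom.one_apply, Units.val_one, mul_one])

theorem irrTwist_mul_congr {G : Type*} [Group G] [Fintype G] (χ : Cfsg.IrrCharacter G)
    {a b c d : G →* ℂˣ} (h : irrTwist χ a = irrTwist χ b) (h' : irrTwist χ c = irrTwist χ d) :
    irrTwist χ (a * c) = irrTwist χ (b * d) := by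
  rw [← irrTwist_mul, h, irrTwist_mul, show b * c = c * b from MonoidHom.ext fun g => mul_comm _ _,
    ← irrTwist_mul, h', irrTwist_mul, show b * d = d * b from MonoidHom.ext fun g => mul_comm _ _]

/-- Coprime averaging: a family of twists indexed by a finite group has a fixed twist. -/
theorem exists_fixed_twist {G S : Type*} [Group G] [Fintype G] [Group S] (S₀ : Subgroup S)
    [S₀.Normal] [Finite (S ⧸ S₀)] (α : S →* MulAut G)
    (h₀ : ∀ s ∈ S₀, ∀ η : Cfsg.IrrCharacter G, irrCongr (α s) η = η)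
    (χ : Cfsg.IrrCharacter G) {m : ℕ} (hm : (Nat.card (S ⧸ S₀)).Coprime m)
    (T : Set G)
    (hF : ∀ s : S, ∃ f : G →* ℂˣ,
      f ^ m = 1 ∧ (∀ g ∈ T, f g = 1) ∧ irrCongr (α s) χ = irrTwist χ f) :
    ∃ μ : G →* ℂˣ, (∀ g ∈ T, μ g = 1) ∧ InvFun α (irrTwist χ μ).1 := by
  classical
  haveI : Fintype (S ⧸ S₀) := Fintype.ofFinite _
  choose F hFm hFT hF using hF
  have hcomp : ∀ s t : S, irrCongr (α s) (irrCongr (α t) χ) = irrCongr (α (t * s)) χ := fun s t =>
    Subtype.ext (funext fun g => by simp [irrCongr_apply])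
  set q : S ⧸ S₀ → G →* ℂˣ := fun x => F x.out
  have hq : ∀ s : S, irrCongr (α s) χ = irrTwist χ (q (s : S ⧸ S₀)) := fun s => by
    rw [← hF]
    obtain ⟨m₀, hm₀⟩ := QuotientGroup.mk_out_eq_mul S₀ s
    rw [hm₀, ← hcomp, h₀ _ m₀.2]
  have htw : ∀ (s : S) (f : G →* ℂˣ), irrCongr (α s) (irrTwist χ f) =
      irrTwist χ (q (s : S ⧸ S₀) * f.comp (α s).toMonoidHom) := fun s f => by
    rw [← irrTwist_mul, ← hq]
    exact Subtype.ext (funext fun g => rfl)
  obtain ⟨k, hk⟩ : ∃ k : ℕ, ∀ a : G →* ℂˣ, a ^ m = 1 → a ^ (Nat.card (S ⧸ S₀) * k) = a := by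
    have hpt : ∀ a : G →* ℂˣ, a ^ m = 1 → ∀ g, (a g) ^ m = 1 := fun a ha g =>
      DFunLike.congr_fun ha g
    rcases Nat.lt_or_ge 1 m with h1 | h1
    · obtain ⟨k, -, hk⟩ := Nat.exists_mul_mod_eq_one_of_coprime hm h1
      refine ⟨k, fun a ha => MonoidHom.ext fun g => ?_⟩
      rw [MonoidHom.pow_apply, ← Nat.mod_add_div (Nat.card (S ⧸ S₀) * k) m, pow_add, pow_mul,
        hpt a ha g, one_pow, mul_one, hk, pow_one]
    · refine ⟨1, fun a ha => MonoidHom.ext fun g => ?_⟩
      rw [MonoidHom.pow_apply]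
      interval_cases m
      · rw [Nat.coprime_zero_right] at hm
        rw [hm, one_mul, pow_one]
      · have := hpt a ha g
        rw [pow_one] at this
        rw [this, one_pow]
  set P := ∏ x : S ⧸ S₀, q x with hP
  refine ⟨P ^ k, fun g hg => ?_, fun s g => ?_⟩
  · rw [MonoidHom.pow_apply, hP, MonoidHom.finsetProd_apply,
      Finset.prod_eq_one fun x _ => hFT x.out g hg, one_pow]
  suffices h : irrCongr (α s) (irrTwist χ (P ^ k)) = irrTwist χ (P ^ k) from
    congrFun (congrArg Subtype.val h) g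
  rw [htw]
  set c : G →* ℂˣ := q (s : S ⧸ S₀) with hc
  set Q := P.comp (α s).toMonoidHom with hQ
  have hstep : ∀ x : S ⧸ S₀, irrTwist χ (q (x * (s : S ⧸ S₀))) =
      irrTwist χ (c * (q x).comp (α s).toMonoidHom) := fun x => by
    obtain ⟨t, rfl⟩ := QuotientGroup.mk_surjective x
    rw [← QuotientGroup.mk_mul, ← hq, ← htw, ← hq, hcomp]
  have hprod : irrTwist χ P = irrTwist χ (c ^ Nat.card (S ⧸ S₀) * Q) := by
    have h1 : irrTwist χ (∏ x : S ⧸ S₀, q (x * (s : S ⧸ S₀))) =
        irrTwist χ (∏ x : S ⧸ S₀, c * (q x).comp (α s).toMonoidHom) := by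
      refine Finset.induction_on (motive := fun t => irrTwist χ (∏ x ∈ t, q (x * (s : S ⧸ S₀))) =
        irrTwist χ (∏ x ∈ t, c * (q x).comp (α s).toMonoidHom)) Finset.univ
        (by rw [Finset.prod_empty, Finset.prod_empty]) fun x t hx ih => ?_
      rw [Finset.prod_insert hx, Finset.prod_insert hx]
      exact irrTwist_mul_congr χ (hstep x) ih
    have h2 : ∏ x : S ⧸ S₀, q (x * (s : S ⧸ S₀)) = P :=
      Fintype.prod_equiv (Equiv.mulRight (s : S ⧸ S₀)) _ _ fun x => rfl
    have hPc : Q = ∏ x : S ⧸ S₀, (q x).comp (α s).toMonoidHom := by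
      refine MonoidHom.ext fun g => ?_
      rw [hQ, MonoidHom.comp_apply, hP, MonoidHom.finsetProd_apply, MonoidHom.finsetProd_apply]
      rfl
    rw [← h2, h1, Finset.prod_mul_distrib, Finset.prod_const, Finset.card_univ,
      ← Nat.card_eq_fintype_card, ← hPc]
  have hpow : ∀ j : ℕ, irrTwist χ (P ^ j) =
      irrTwist χ ((c ^ Nat.card (S ⧸ S₀) * Q) ^ j) := fun j => by
    induction j with
    | zero => exact congrArg (irrTwist χ) (MonoidHom.ext fun g => by simp)
    | succ j ih =>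
      rw [show P ^ (j + 1) = P ^ j * P from MonoidHom.ext fun g => by simp [pow_succ],
        show (c ^ Nat.card (S ⧸ S₀) * Q) ^ (j + 1) =
          (c ^ Nat.card (S ⧸ S₀) * Q) ^ j * (c ^ Nat.card (S ⧸ S₀) * Q) from
          MonoidHom.ext fun g => by simp [pow_succ]]
      exact irrTwist_mul_congr χ ih hprod
  rw [hpow k, show (c ^ Nat.card (S ⧸ S₀) * Q) ^ k = c ^ (Nat.card (S ⧸ S₀) * k) * Q ^ k from
    MonoidHom.ext fun g => by simp [mul_pow, pow_mul], hk c (hFm _)]
  exact congrArg (irrTwist χ) (congrArg (c * ·) (MonoidHom.ext fun g => rfl))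

variable {Γ : Type*} [Group Γ] [Finite Γ]

/-- Invariant characters above invariant characters through a solvable coprime section. -/
theorem exists_conjInv_above :
    ∀ (n : ℕ) (G S N : Subgroup Γ) [Fintype G] [Fintype N], Nat.card G = n →
      S ≤ Subgroup.normalizer (G : Set Γ) → S ≤ Subgroup.normalizer (N : Set Γ) →
      G ≤ Subgroup.normalizer (N : Set Γ) → ∀ hNG : N ≤ G,
      (N.relIndex S).Coprime (N.relIndex G) →
      (∃ k : ℕ, Nat.rec G (fun _ H => N ⊔ ⁅H, H⁆) k = N) →
      ∀ θ : Cfsg.IrrCharacter N, ConjInv N S θ.1 →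
      ∃ χ : Cfsg.IrrCharacter G, ConjInv G S χ.1 ∧
        mult (fun x : N => χ.1 ⟨x, hNG x.2⟩) θ ≠ 0 := by
  classical
  intro n
  induction n using Nat.strong_induction_on with
  | _ n ih =>
    intro G S N iG iN hn hSG hSN hGN hNG hcop hsolv θ hθ
    subst hn
    rcases eq_or_ne N G with rfl | hne
    · obtain rfl : iG = iN := Subsingleton.elim _ _
      exact ⟨θ, hθ, mult_ne_zero_of_eq (fun x => rfl) (by rw [mult_self_eq_one]; exact one_ne_zero)⟩
    set M : Subgroup Γ := N ⊔ ⁅G, G⁆ with hM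
    have hMG : M ≤ G := sup_le hNG (Subgroup.commutator_le_self G)
    obtain ⟨k, hk⟩ := hsolv
    have hMlt : M ≠ G := by
      intro h
      have hall : ∀ j : ℕ, (Nat.rec G (fun _ H => N ⊔ ⁅H, H⁆) j : Subgroup Γ) = G := by
        intro j
        induction j with
        | zero => rfl
        | succ j hj => simp only [hj]; exact h
      exact hne (hk.symm.trans (hall k))
    have hsolv' : ∃ k' : ℕ, Nat.rec M (fun _ H => N ⊔ ⁅H, H⁆) k' = N := by
      cases k with
      | zero => exact absurd hk.symm hne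
      | succ j =>
        refine ⟨j, Eq.trans ?_ hk⟩
        clear hk
        induction j with
        | zero => rfl
        | succ j hj => simp only [hj]
    have hnorm : ∀ x ∈ Subgroup.normalizer (G : Set Γ),
        x ∈ Subgroup.normalizer (N : Set Γ) → x ∈ Subgroup.normalizer (M : Set Γ) := by
      intro x hxG hxN
      rw [Subgroup.mem_normalizer_iff_map_conj_eq] at hxG hxN ⊢
      rw [hM, Subgroup.map_sup, hxN, Subgroup.map_commutator, hxG]
    haveI : Fintype M := Fintype.ofFinite _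
    have hlt : Nat.card M < Nat.card G := (Subgroup.card_le_of_le hMG).lt_of_ne fun h =>
      hMlt (Subgroup.eq_of_le_of_card_ge hMG h.ge)
    have hcopM : (N.relIndex S).Coprime (N.relIndex M) :=
      hcop.coprime_dvd_right (Dvd.intro _ (Subgroup.relIndex_mul_relIndex N M G le_sup_left hMG))
    obtain ⟨ψ, hψ, hψθ⟩ := ih _ hlt M S N rfl (fun x hx => hnorm x (hSG hx) (hSN hx)) hSN
      (hMG.trans hGN) le_sup_left hcopM hsolv' θ hθ
    have hGM : G ≤ Subgroup.normalizer (M : Set Γ) := fun x hx =>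
      hnorm x (Subgroup.le_normalizer hx) (hGN hx)
    set M' : Subgroup G := M.subgroupOf G
    haveI : M'.Normal := (Subgroup.normal_subgroupOf_iff_le_normalizer hMG).mpr hGM
    haveI : Fintype M' := Fintype.ofFinite _
    set e : M' ≃* M := Subgroup.subgroupOfEquivOfLe hMG
    have hcomm : commutator G ≤ M' := by
      rw [commutator_def, Subgroup.commutator_le]
      intro a _ b _
      exact Subgroup.mem_sup_right (Subgroup.commutator_mem_commutator a.2 b.2)
    obtain ⟨χ, hχ⟩ := exists_above M' (irrCongr e ψ)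
    set S₀ : Subgroup S := M.subgroupOf S
    haveI : S₀.Normal :=
      ⟨fun x hx s => (Subgroup.mem_normalizer_iff.mp (hnorm s (hSG s.2) (hSN s.2)) x).mp hx⟩
    have hnormG : ∀ s ∈ S, ∀ g ∈ G, s * g * s⁻¹ ∈ G :=
      fun s hs g hg => (Subgroup.mem_normalizer_iff.mp (hSG hs) g).mp hg
    set α := conjHom G S hnormG
    have hm : (Nat.card (S ⧸ S₀)).Coprime M'.index :=
      (hcop.coprime_dvd_left (Subgroup.relIndex_dvd_of_le_left S
        (le_sup_left : N ≤ M))).coprime_dvd_right
        (Subgroup.relIndex_dvd_of_le_left G (le_sup_left : N ≤ M))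
    obtain ⟨μ, hμM, hμinv⟩ := exists_fixed_twist S₀ α
      (fun s hs η => Subtype.ext (funext fun g => by
        rw [irrCongr_apply, show α s g = (⟨(s : Γ), hMG hs⟩ : G) * g * ⟨(s : Γ), hMG hs⟩⁻¹
          from Subtype.ext rfl, H26.irr_conj]))
      χ hm (M' : Set G) (fun s => by
        obtain ⟨f, hf, h⟩ := exists_twist_of_abelian M' hcomm χ (irrCongr (α s) χ)
          (irrCongr e ψ) hχ (by
            unfold mult at hχ
            unfold restrMult mult
            set β : M' ≃* M' := e.trans ((M.normalizerMonoidHom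
              ⟨(s : Γ), hnorm s (hSG s.2) (hSN s.2)⟩).trans e.symm) with hβ
            have h2 : (irrCongr e ψ).1 = fun x : M' => (irrCongr e ψ).1 (β x) := funext fun x => by
              rw [irrCongr_apply, irrCongr_apply]
              exact (hψ s s.2 (e x) (e (β x)) rfl).symm
            rw [h2, show (fun n : M' => (irrCongr (α s) χ).1 n) = fun n : M' => χ.1 (β n : G)
              from funext fun n => congrArg χ.1 (Subtype.ext rfl),
              classInner_congr β (fun n : M' => χ.1 n) (irrCongr e ψ).1]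
            exact hχ)
        exact ⟨f, MonoidHom.ext fun g => by
          rw [MonoidHom.pow_apply, ← map_pow, MonoidHom.one_apply]
          exact hf _ (by rw [Subgroup.index_eq_card, ← QuotientGroup.eq_one_iff,
            QuotientGroup.mk_pow, pow_card_eq_one']), hf, h⟩)
    refine ⟨irrTwist χ μ, ?_, ?_⟩
    · exact (invFun_conjHom_iff G S hnormG _).mp hμinv
    · have hjN : N ≤ M := le_sup_left
      have h1 : mult (fun m : M => χ.1 ⟨m, hMG m.2⟩) ψ ≠ 0 := by
        unfold mult at hχ ⊢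
        rw [← classInner_congr e (fun m : M => χ.1 ⟨m, hMG m.2⟩) ψ.1]
        exact hχ
      refine mult_ne_zero_of_eq (fun x => ?_)
        (mult_ne_zero_comp (Subgroup.inclusion hjN)
          (φ := fun m : M => χ.1 ⟨m, hMG m.2⟩)
          (H26.isCharacter_comp (H26.irr_isCharacter χ) (Subgroup.inclusion hMG)) h1 hψθ)
      rw [irrTwist_apply, hμM ⟨(x : Γ), hNG x.2⟩ (hjN x.2), Units.val_one, mul_one]
      rfl

end Cfsg.Agent.H43

namespace Cfsg.Agent.H43

open scoped commutatorElement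

variable {Γ : Type*} [Group Γ] [Finite Γ]

/-- A solvable section is reached by iterated commutators. -/
theorem exists_series_of_isSolvable (G N : Subgroup Γ) (hNG : N ≤ G) [(N.subgroupOf G).Normal]
    (hs : Group.IsSolvable (G ⧸ N.subgroupOf G)) :
    ∃ k : ℕ, Nat.rec G (fun _ H => N ⊔ ⁅H, H⁆) k = N := by
  set π := QuotientGroup.mk' (N.subgroupOf G)
  have key : ∀ j : ℕ, (Nat.rec G (fun _ H => N ⊔ ⁅H, H⁆) j : Subgroup Γ) ≤
      ((derivedSeries (G ⧸ N.subgroupOf G) j).comap π).map G.subtype := by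
    intro j
    induction j with
    | zero =>
      rw [derivedSeries_zero, Subgroup.comap_top, ← MonoidHom.range_eq_map,
        Subgroup.range_subtype]
      exact le_rfl
    | succ j ih =>
      refine sup_le (fun x hx => ⟨⟨x, hNG hx⟩, ?_, rfl⟩) (Subgroup.commutator_le.mpr ?_)
      · rw [SetLike.mem_coe, Subgroup.mem_comap, show π ⟨x, hNG hx⟩ = 1 from (QuotientGroup.eq_one_iff _).mpr hx]
        exact one_mem _
      · intro a ha b hb
        obtain ⟨a', ha', rfl⟩ := ih ha
        obtain ⟨b', hb', rfl⟩ := ih hb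
        refine ⟨⁅a', b'⁆, ?_, map_commutatorElement _ _ _⟩
        show π ⁅a', b'⁆ ∈ derivedSeries _ (j + 1)
        rw [map_commutatorElement, derivedSeries_succ]
        exact Subgroup.commutator_mem_commutator ha' hb'
  obtain ⟨k, hk⟩ := (Group.isSolvable_def _).mp hs
  refine ⟨k + 1, le_antisymm (fun x hx => ?_) ?_⟩
  · obtain ⟨y, hy, rfl⟩ := key (k + 1) hx
    have hbot : derivedSeries (G ⧸ N.subgroupOf G) (k + 1) = ⊥ := by
      rw [derivedSeries_succ, hk, Subgroup.commutator_bot_left]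
    have h1 : π y ∈ derivedSeries (G ⧸ N.subgroupOf G) (k + 1) := hy
    rw [hbot, Subgroup.mem_bot] at h1
    exact (QuotientGroup.eq_one_iff y).mp h1
  · exact le_sup_left

end Cfsg.Agent.H43
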