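import Mathlib
import Cfsg.Agent.H43.CharTools
import Cfsg.Agent.H43.IntCong

/-!
# Characters modulo `p` separate the classes of `p`-regular elements
-/

set_option autoImplicit false
set_option maxHeartbeats 800000

namespace Cfsg.Agent.H43

open scoped ComplexConjugate
open Module

variable {G : Type*} [Group G] [Finite G]

/-- The average of a character over `u D`, for a subgroup `D` centralizing `u`, is an algebraic
integer. -/
theorem isIntegral_average_coset (χ : Cfsg.IrrCharacter G) (u : G) (D : Subgroup G) [Fintype D]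
    (hD : ∀ d ∈ D, Commute u d) :
    IsIntegral ℤ ((Nat.card D : ℂ)⁻¹ * ∑ d : D, χ.1 (u * d)) := by
  obtain ⟨m, ρ, hρ, e⟩ := χ.2
  have hne : (Nat.card D : ℂ) ≠ 0 := Nat.cast_ne_zero.mpr Nat.card_pos.ne'
  set P : Module.End ℂ (Fin m → ℂ) := (Nat.card D : ℂ)⁻¹ • ∑ d : D, ρ (d : G) with hP
  have hmulP : ∀ d : D, ρ (d : G) * P = P := by
    intro d
    rw [hP, mul_smul_comm, Finset.mul_sum]
    congr 1
    exact Fintype.sum_equiv (Equiv.mulLeft d) _ _ fun x => by simp [map_mul]
  have hPP : P * P = P := by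
    conv_lhs => rw [hP, smul_mul_assoc, Finset.sum_mul, ← hP]
    rw [Finset.sum_congr rfl fun d _ => hmulP d, Finset.sum_const, Finset.card_univ,
      ← Nat.cast_smul_eq_nsmul ℂ, smul_smul, Nat.card_eq_fintype_card.symm, inv_mul_cancel₀ hne,
      one_smul]
  have hc : Commute (ρ u) P := by
    rw [Commute, SemiconjBy, hP, mul_smul_comm, smul_mul_assoc, Finset.mul_sum, Finset.sum_mul]
    congr 1
    exact Finset.sum_congr rfl fun d _ => by rw [← map_mul, ← map_mul, (hD d d.2).eq]
  set T : Module.End ℂ (Fin m → ℂ) := ρ u * P + (1 - P) with hT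
  have hpow : ∀ k : ℕ, T ^ k = ρ u ^ k * P + (1 - P) := by
    intro k
    induction k with
    | zero => simp
    | succ k ih =>
      have e1 : ρ u ^ k * P * (ρ u * P) = ρ u ^ (k + 1) * P := by
        rw [mul_assoc, ← mul_assoc P, ← hc.eq, mul_assoc (ρ u) P, hPP, ← mul_assoc, ← pow_succ]
      have e2 : ρ u ^ k * P * (1 - P) = 0 := by
        rw [mul_assoc, mul_sub, mul_one, hPP, sub_self, mul_zero]
      have e3 : (1 - P) * (ρ u * P) = 0 := by
        rw [← mul_assoc, sub_mul, one_mul, ← hc.eq, sub_mul, mul_assoc (ρ u) P, hPP, sub_self]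
      have e4 : (1 - P) * (1 - P) = 1 - P := by
        rw [mul_sub, mul_one, sub_mul, one_mul, hPP, sub_self, sub_zero]
      rw [pow_succ, ih, hT, mul_add, add_mul, add_mul, e1, e2, e3, e4, add_zero, zero_add]
  have hTn : T ^ orderOf u = 1 := by
    rw [hpow, ← map_pow, pow_orderOf_eq_one, map_one, one_mul, add_sub_cancel]
  obtain ⟨b, μ, hb, hμ⟩ := H25.exists_eigenbasis_of_pow_eq_one T (n := orderOf u)
    (Nat.cast_ne_zero.mpr (orderOf_pos u).ne') hTn
  have htT : IsIntegral ℤ (LinearMap.trace ℂ (Fin m → ℂ) T) := by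
    rw [H25.trace_eq_sum_of_eigenbasis T b μ hb]
    refine IsIntegral.sum _ fun i _ => IsIntegral.of_pow (orderOf_pos u) ?_
    rw [hμ i]; exact isIntegral_one
  have htuP : LinearMap.trace ℂ (Fin m → ℂ) (ρ u * P) =
      (Nat.card D : ℂ)⁻¹ * ∑ d : D, χ.1 (u * d) := by
    rw [hP, mul_smul_comm, Finset.mul_sum, map_smul, map_sum, smul_eq_mul]
    congr 1
    refine Finset.sum_congr rfl fun d _ => ?_
    rw [← map_mul, ← e]; rfl
  have hres : Cfsg.IsCharacter D fun d : D => χ.1 d :=
    H26.isCharacter_comp (H26.irr_isCharacter χ) D.subtype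
  have htP : IsIntegral ℤ (LinearMap.trace ℂ (Fin m → ℂ) P) := by
    have h := classInner_eq_mult hres (H26.oneIrr D)
    have e1 : LinearMap.trace ℂ (Fin m → ℂ) P =
        Cfsg.classInner (fun d : D => χ.1 d) (H26.oneIrr D).1 := by
      rw [hP, map_smul, map_sum, smul_eq_mul]
      simp only [Cfsg.classInner, H26.oneIrr_val, map_one, mul_one]
      congr 1
      exact Finset.sum_congr rfl fun d _ => by rw [← e]; rfl
    rw [e1, h]
    exact isIntegral_natCast _
  have hsum : (Nat.card D : ℂ)⁻¹ * ∑ d : D, χ.1 (u * d) =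
      LinearMap.trace ℂ (Fin m → ℂ) T - (m : ℂ) + LinearMap.trace ℂ (Fin m → ℂ) P := by
    rw [hT, map_add, map_sub, ← htuP, LinearMap.trace_one, Module.finrank_fin_fun]
    ring
  rw [hsum]
  exact (htT.sub (isIntegral_natCast m)).add htP

/-- A character value raised to the power `p ^ a` is congruent to the value at the `p ^ a`-th
power. -/
theorem intCong_pow_value (χ : Cfsg.IrrCharacter G) (p a : ℕ) [hp : Fact p.Prime] (x : G) :
    IntCong p (χ.1 x ^ p ^ a) (χ.1 (x ^ p ^ a)) := by
  classical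
  obtain ⟨m, ρ, hρ, e⟩ := χ.2
  obtain ⟨b, μ, hb, hμ, hsum⟩ := H25.exists_eigenbasis ρ x
  have hpow : ∀ (k : ℕ) (i), (ρ (x ^ k)) (b i) = μ i ^ k • b i := by
    intro k i
    induction k with
    | zero => simp
    | succ k ih => rw [pow_succ', map_mul, Module.End.mul_apply, ih, map_smul, hb, smul_smul,
        pow_succ]
  have hsum' : ρ.character (x ^ p ^ a) = ∑ i, μ i ^ p ^ a :=
    H25.trace_eq_sum_of_eigenbasis _ b _ (hpow _)
  have hint : ∀ i, IsIntegral ℤ (μ i) := fun i => IsIntegral.of_pow (orderOf_pos x)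
    (by rw [hμ i]; exact isIntegral_one)
  have key : ∀ s : Finset (Fin (finrank ℂ (Fin m → ℂ))),
      IntCong p ((∑ i ∈ s, μ i) ^ p ^ a) (∑ i ∈ s, μ i ^ p ^ a) := by
    intro s
    induction s using Finset.induction with
    | empty =>
      rw [Finset.sum_empty, Finset.sum_empty, zero_pow (pow_pos hp.out.pos a).ne']
      exact IntCong.refl p 0
    | insert i s hi ih =>
      rw [Finset.sum_insert hi, Finset.sum_insert hi]
      obtain ⟨r, hr⟩ := exists_add_pow_prime_pow_eq hp.out
        (⟨μ i, hint i⟩ : integralClosure ℤ ℂ)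
        ⟨∑ j ∈ s, μ j, IsIntegral.sum _ fun j _ => hint j⟩ a
      have hr' := congrArg (fun z : integralClosure ℤ ℂ => (z : ℂ)) hr
      push_cast at hr'
      rw [hr']
      refine IntCong.trans (b := μ i ^ p ^ a + (∑ j ∈ s, μ j) ^ p ^ a)
        ?_ ((IntCong.refl p _).add ih)
      exact ⟨_, ((hint i).mul (IsIntegral.sum _ fun j _ => hint j)).mul r.2, by ring⟩
  rw [← e, hsum, hsum']
  exact key _

/-- Two `p`-regular elements with congruent character values are conjugate. -/
theorem isConj_of_intCong (p : ℕ) [hp : Fact p.Prime] {u v : G} (hu : ¬ p ∣ orderOf u)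
    (hv : ¬ p ∣ orderOf v) (h : ∀ χ : Cfsg.IrrCharacter G, IntCong p (χ.1 u) (χ.1 v)) :
    IsConj u v := by
  classical
  have : Fintype G := Fintype.ofFinite G
  by_contra hne
  set C := Subgroup.centralizer ({u} : Set G)
  let S : Sylow p C := default
  set D := (S : Subgroup C).map C.subtype with hD
  have hcD : Nat.card D = Nat.card (S : Subgroup C) :=
    Subgroup.card_map_of_injective Subtype.val_injective
  have hcomm : ∀ d ∈ D, Commute u d := by
    rintro d ⟨c, -, rfl⟩
    exact (Subgroup.mem_centralizer_singleton_iff.mp c.2).symm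
  have hDp : IsPGroup p D := S.isPGroup'.map _
  have hone : ∀ d ∈ D, ¬ p ∣ orderOf (u * d) → d = 1 := by
    intro d hd hnd
    obtain ⟨k, hk⟩ := IsPGroup.iff_orderOf.mp hDp ⟨d, hd⟩
    rw [Subgroup.orderOf_mk] at hk
    have hcop : (orderOf u).Coprime (orderOf d) := by
      rw [hk]
      exact Nat.Coprime.pow_right k ((hp.out.coprime_iff_not_dvd.mpr hu).symm)
    rw [(hcomm d hd).orderOf_mul_eq_mul_orderOf_of_coprime hcop, hk] at hnd
    rcases Nat.eq_zero_or_pos k with rfl | h0
    · rwa [pow_zero, orderOf_eq_one_iff] at hk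
    · exact absurd (Dvd.dvd.mul_left (dvd_pow_self p h0.ne') _) hnd
  set f : Cfsg.IrrCharacter G → ℂ := fun χ =>
    conj ((Nat.card D : ℂ)⁻¹ * ∑ d : D, χ.1 (u * d))
  have hf : ∀ χ, IsIntegral ℤ (f χ) := fun χ =>
    (isIntegral_average_coset χ u D hcomm).map (conj : ℂ →+* ℂ).toIntAlgHom
  have hval : ∀ g : G, ¬ p ∣ orderOf g → ∑ χ, χ.1 g * f χ =
      (Nat.card D : ℂ)⁻¹ * ((Nat.card C : ℂ) * H26.classIndicator u g) := by
    intro g hg
    have e1 : ∀ χ : Cfsg.IrrCharacter G, χ.1 g * f χ =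
        (Nat.card D : ℂ)⁻¹ * ∑ d : D, χ.1 g * conj (χ.1 (u * d)) := by
      intro χ
      simp only [f, map_mul, map_inv₀, map_natCast, map_sum, Finset.mul_sum]
      exact Finset.sum_congr rfl fun d _ => by ring
    simp only [e1]
    rw [← Finset.mul_sum, Finset.sum_comm]
    congr 1
    simp only [H26.column_orthogonality]
    rw [Finset.sum_eq_single (1 : D)]
    · simp [C]
    · intro d _ hd
      simp only [H26.classIndicator]
      rw [if_neg, mul_zero]
      intro hc
      apply hd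
      refine Subtype.ext (hone d d.2 ?_)
      obtain ⟨w, hw⟩ := isConj_iff.mp hc
      rw [← hw, show w * g * w⁻¹ = MulAut.conj w g from rfl, MulEquiv.orderOf_eq]
      exact hg
    · simp
  have hcong : IntCong p (∑ χ, χ.1 u * f χ) (∑ χ, χ.1 v * f χ) :=
    IntCong.sum _ _ _ fun χ _ => (h χ).mul_right (hf χ)
  rw [hval u hu, hval v hv] at hcong
  simp only [H26.classIndicator] at hcong
  rw [if_pos (IsConj.refl u), if_neg (fun hc => hne hc.symm)] at hcong
  rw [mul_zero, mul_zero, mul_one, ← Subgroup.card_mul_index (S : Subgroup C), Nat.cast_mul,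
    ← hcD, ← mul_assoc, inv_mul_cancel₀ (Nat.cast_ne_zero.mpr Nat.card_pos.ne'), one_mul] at hcong
  exact S.not_dvd_index (IntCong.nat_dvd hp.out.ne_zero hcong)

end Cfsg.Agent.H43
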