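import Cfsg.Agent.H43.Constituents
import Cfsg.Agent.H43.SubgroupAction

/-!
# Conjugates of characters of a subgroup by elements of the ambient group
-/

namespace Cfsg.Agent.H43

variable {Γ : Type*} [Group Γ]

/-- `f` is invariant under conjugation by the elements of `S` (the form used in the statements). -/
def ConjInv (N S : Subgroup Γ) (f : N → ℂ) : Prop :=
  ∀ s ∈ S, ∀ g g' : N, (g' : Γ) = s * g * s⁻¹ → f g' = f g

/-- The elements normalising `N` and fixing `f`. -/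
def conjStab (N : Subgroup Γ) (f : N → ℂ) : Subgroup Γ where
  carrier := {x | ∃ hx : x ∈ Subgroup.normalizer (N : Set Γ),
    ∀ n, f (N.normalizerMonoidHom ⟨x, hx⟩ n) = f n}
  one_mem' := ⟨one_mem _, fun n => congrArg f (Subtype.ext (by simp))⟩
  mul_mem' := fun {a b} ⟨ha, ha'⟩ ⟨hb, hb'⟩ => ⟨mul_mem ha hb, fun n => by
    rw [show (⟨a * b, mul_mem ha hb⟩ : Subgroup.normalizer (N : Set Γ)) = ⟨a, ha⟩ * ⟨b, hb⟩
      from rfl, map_mul, MulAut.mul_apply, ha', hb']⟩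
  inv_mem' := fun {a} ⟨ha, ha'⟩ => ⟨inv_mem ha, fun n => by
    rw [show (⟨a⁻¹, inv_mem ha⟩ : Subgroup.normalizer (N : Set Γ)) = (⟨a, ha⟩ :
      Subgroup.normalizer (N : Set Γ))⁻¹ from rfl, map_inv]
    conv_rhs => rw [← MulAut.apply_inv_self _ (N.normalizerMonoidHom ⟨a, ha⟩) n, ha']⟩

theorem normalizerMonoidHom_coe (N : Subgroup Γ) (x : Subgroup.normalizer (N : Set Γ)) (n : N) :
    ((N.normalizerMonoidHom x n : N) : Γ) = (x : Γ) * n * (x : Γ)⁻¹ := rfl

theorem mem_conjStab {N : Subgroup Γ} {f : N → ℂ} {x : Γ}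
    (hx : x ∈ Subgroup.normalizer (N : Set Γ)) :
    x ∈ conjStab N f ↔ ∀ n, f (N.normalizerMonoidHom ⟨x, hx⟩ n) = f n :=
  ⟨fun ⟨_, h⟩ => h, fun h => ⟨hx, h⟩⟩

theorem conjInv_of_le_conjStab {N S : Subgroup Γ} {f : N → ℂ} (h : S ≤ conjStab N f) :
    ConjInv N S f := fun s hs g g' e => by
  obtain ⟨hx, h'⟩ := h hs
  rw [show g' = N.normalizerMonoidHom ⟨s, hx⟩ g from Subtype.ext e]
  exact h' g

theorem le_conjStab_of_conjInv {N S : Subgroup Γ} {f : N → ℂ}
    (hS : S ≤ Subgroup.normalizer (N : Set Γ)) (h : ConjInv N S f) : S ≤ conjStab N f :=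
  fun s hs => ⟨hS hs, fun n => h s hs n _ rfl⟩

theorem le_normalizer_of_conj_mem {N S : Subgroup Γ} (h : ∀ s ∈ S, ∀ n ∈ N, s * n * s⁻¹ ∈ N) :
    S ≤ Subgroup.normalizer (N : Set Γ) := fun s hs => Subgroup.mem_normalizer_iff.mpr fun n =>
  ⟨h s hs n, fun hn => by
    have := h s⁻¹ (S.inv_mem hs) _ hn
    rwa [show s⁻¹ * (s * n * s⁻¹) * s⁻¹⁻¹ = n by group] at this⟩

theorem le_conjStab_self [Finite Γ] (N : Subgroup Γ) (θ : Cfsg.IrrCharacter N) :
    N ≤ conjStab N θ.1 := fun x hx => ⟨Subgroup.le_normalizer hx, fun n => by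
  rw [show N.normalizerMonoidHom ⟨x, Subgroup.le_normalizer hx⟩ n =
    (⟨x, hx⟩ : N) * n * ⟨x, hx⟩⁻¹ from Subtype.ext rfl, H26.irr_conj]⟩

/-- The conjugate character `θ^x`. -/
noncomputable def subConj (N : Subgroup Γ) (x : Subgroup.normalizer (N : Set Γ))
    (θ : Cfsg.IrrCharacter N) : Cfsg.IrrCharacter N :=
  irrCongr (N.normalizerMonoidHom x) θ

theorem subConj_apply (N : Subgroup Γ) (x : Subgroup.normalizer (N : Set Γ))
    (θ : Cfsg.IrrCharacter N) (n : N) :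
    (subConj N x θ).1 n = θ.1 (N.normalizerMonoidHom x n) := rfl

theorem mem_conjStab_iff_subConj {N : Subgroup Γ} {θ : Cfsg.IrrCharacter N} {x : Γ}
    (hx : x ∈ Subgroup.normalizer (N : Set Γ)) :
    x ∈ conjStab N θ.1 ↔ subConj N ⟨x, hx⟩ θ = θ := by
  rw [mem_conjStab hx]
  exact ⟨fun h => Subtype.ext (funext h), fun h n => congrFun (congrArg Subtype.val h) n⟩

theorem subConj_subConj (N : Subgroup Γ) (x y : Subgroup.normalizer (N : Set Γ))
    (θ : Cfsg.IrrCharacter N) : subConj N x (subConj N y θ) = subConj N (y * x) θ :=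
  Subtype.ext (funext fun n => by simp [subConj_apply])

end Cfsg.Agent.H43
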