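import Cfsg.Agent.S0942
import Cfsg.Agent.H38.ClassCoeff
import Cfsg.Agent.H38.KleinBlock
import Cfsg.Agent.H40.SecondMain
import Cfsg.Agent.H40.PPart
import Cfsg.Agent.H41.PrincipalSection
import Cfsg.Agent.H42.MaxIdeal
import Cfsg.Agent.H42.Arith
import Cfsg.Agent.H43.CharTools
import Cfsg.Agent.H43.Constituents
import Cfsg.Agent.H59.PSolvable
import Cfsg.Agent.H84.PSolvable

/-!
# One class of `p`-elements with `p`-nilpotent centralizer

If all non-trivial `p`-elements of a simple group are conjugate to `x` and `C(x)` has a normal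
`p`-complement, then the proportion of pairs in the class of `x` with `p`-singular product is less
than one half.  So some pair `x`, `y` has both `x * y` and `x * y⁻¹` regular, which cannot happen
when `x` and `y` generate a `p`-solvable group with abelian Sylow subgroups.
-/

set_option autoImplicit false
set_option linter.unusedSectionVars false

open scoped ComplexConjugate

namespace Cfsg.Agent.H43

variable {G : Type*} [Group G] {p : ℕ} [hp : Fact p.Prime]

/-- Two elements of order `p` generating a `p`-solvable group with abelian `p`-subgroups cannot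
have both `x * y` and `x * y⁻¹` regular. -/
theorem not_both_regular [Finite G] (hp2 : p ≠ 2)
    (hab : ∀ T : Subgroup G, IsPGroup p T → ∀ a ∈ T, ∀ b ∈ T, a * b = b * a) {x y : G}
    (hx : orderOf x = p) (hy : orderOf y = p)
    (hsol : Cfsg.IsPSolvable p (Subgroup.closure ({x, y} : Set G))) :
    ¬ (¬ p ∣ orderOf (x * y) ∧ ¬ p ∣ orderOf (x * y⁻¹)) := by
  rintro ⟨h1, h2⟩
  set H := Subgroup.closure ({x, y} : Set G) with hH
  let a : H := ⟨x, Subgroup.subset_closure (by simp)⟩
  let b : H := ⟨y, Subgroup.subset_closure (by simp)⟩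
  haveI := H19.pPrimeCore_normal p H
  set N := Cfsg.pPrimeCore p H with hN
  set f := QuotientGroup.mk' N with hf
  have hfs : Function.Surjective f := QuotientGroup.mk'_surjective N
  haveI := H19.pCore_normal p (H ⧸ N)
  set U := Cfsg.pCore p (H ⧸ N) with hU
  have hcent := H59.centralizer_pCore_le_of_isPSolvable (H84.isPSolvable_of_surjective f hfs hsol)
    (H19.pPrimeCore_quotient_pPrimeCore p)
  -- every `p`-element of the quotient lies in its `p`-core
  have hmem : ∀ T : Sylow p (H ⧸ N), (T : Subgroup (H ⧸ N)) ≤ U := by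
    intro T u hu
    refine hcent (Subgroup.mem_centralizer_iff.2 fun w hw => ?_)
    obtain ⟨Q, rfl⟩ := Sylow.mapSurjective_surjective hfs p T
    have hwQ : w ∈ (Q.mapSurjective hfs : Subgroup (H ⧸ N)) := H19.pCore_le_sylow _ hw
    obtain ⟨w₀, hw₀, rfl⟩ := Subgroup.mem_map.1 hwQ
    obtain ⟨u₀, hu₀, rfl⟩ := Subgroup.mem_map.1 hu
    rw [← map_mul, ← map_mul]
    congr 1
    exact Subtype.ext (hab ((Q : Subgroup H).map H.subtype) (Q.isPGroup'.map _) _
      (Subgroup.mem_map_of_mem _ hw₀) _ (Subgroup.mem_map_of_mem _ hu₀))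
  have hpel : ∀ c : H, orderOf (c : G) = p → f c ∈ U := by
    intro c hc
    have hc' : c ^ p = 1 := Subtype.ext (by
      rw [Subgroup.coe_pow, Subgroup.coe_one, ← hc, pow_orderOf_eq_one])
    obtain ⟨j, -, hj⟩ := (Nat.dvd_prime_pow hp.out).1
      (show orderOf (f c) ∣ p ^ 1 by
        rw [pow_one]; exact orderOf_dvd_of_pow_eq_one (by rw [← map_pow, hc', map_one]))
    have hP : IsPGroup p (Subgroup.zpowers (f c)) :=
      IsPGroup.of_card (n := j) (by rw [Nat.card_zpowers, hj])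
    obtain ⟨T, hT⟩ := hP.exists_le_sylow
    exact hmem T (hT (Subgroup.mem_zpowers _))
  have htop : ∀ h : H, f h ∈ U := by
    rintro ⟨h, hh⟩
    induction hh using Subgroup.closure_induction with
    | mem z hz =>
      rcases hz with rfl | hz
      · exact hpel _ hx
      · rw [Set.mem_singleton_iff] at hz
        subst hz
        exact hpel _ hy
    | one => exact (map_one f).symm ▸ U.one_mem
    | mul u v hu hv ihu ihv =>
      have := U.mul_mem ihu ihv
      rwa [← map_mul] at this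
    | inv u hu ihu =>
      have := U.inv_mem ihu
      rwa [← map_inv] at this
  have hreg : ∀ h : H, ¬ p ∣ orderOf (h : G) → f h = 1 := by
    intro h hh
    obtain ⟨j, hj⟩ := IsPGroup.iff_orderOf.1 (H19.pCore_isPGroup p) ⟨f h, htop h⟩
    rw [Subgroup.orderOf_mk] at hj
    have hd : orderOf (f h) ∣ orderOf (h : G) := by
      rw [Subgroup.orderOf_coe]; exact orderOf_map_dvd f h
    refine orderOf_eq_one_iff.1 (Nat.eq_one_of_dvd_coprimes
      ((Nat.Prime.coprime_iff_not_dvd hp.out).2 hh |>.pow_left j) (dvd_of_eq hj) hd)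
  have e1 : f a * f b = 1 := by rw [← map_mul]; exact hreg (a * b) (by simpa [a, b] using h1)
  have e2 : f a * (f b)⁻¹ = 1 := by
    rw [← map_inv, ← map_mul]; exact hreg (a * b⁻¹) (by simpa [a, b] using h2)
  have e3 : f (a * a) = 1 := by
    rw [map_mul]
    nth_rewrite 1 [mul_eq_one_iff_eq_inv.1 e1]
    rw [mul_inv_eq_one.1 e2, inv_mul_cancel]
  have ha2 : a * a ∈ N := (QuotientGroup.eq_one_iff _).1 e3
  have hord : orderOf (a * a) = p := by
    have ha : orderOf a = p := by rw [← Subgroup.orderOf_coe]; exact hx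
    rw [← pow_two, Nat.Coprime.orderOf_pow, ha]
    rw [ha]
    exact (Nat.Prime.coprime_iff_not_dvd hp.out).2 fun h =>
      hp2 ((Nat.prime_dvd_prime_iff_eq hp.out Nat.prime_two).1 h)
  have hdvd := orderOf_dvd_natCard (⟨a * a, ha2⟩ : N)
  rw [Subgroup.orderOf_mk, hord] at hdvd
  exact (Nat.Prime.coprime_iff_not_dvd hp.out).1 (H19.pPrimeCore_coprime p).symm hdvd

variable [Fintype G]

/-- A character constant on the non-trivial elements of an abelian subgroup `P`, and not trivial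
on it, has degree at least the value plus the order of `P`. -/
theorem exists_eq_add_mul (χ : Cfsg.IrrCharacter G) (P : Subgroup G)
    (hP : ∀ a ∈ P, ∀ b ∈ P, a * b = b * a) (hP1 : P ≠ ⊥) {c : ℂ}
    (hc : ∀ g ∈ P, g ≠ 1 → (χ : G → ℂ) g = c) :
    ∃ m : ℕ, (χ : G → ℂ) 1 = c + (Nat.card P : ℂ) * m := by
  classical
  haveI := Fintype.ofFinite P
  have hne : ∃ ψ : Cfsg.IrrCharacter P, ψ ≠ H26.oneIrr P := by
    by_contra! h
    have e := H26.column_orthogonality (1 : P) 1
    rw [Finset.sum_congr rfl fun (ψ : Cfsg.IrrCharacter P) _ =>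
      show (ψ : P → ℂ) 1 * conj ((ψ : P → ℂ) 1) = 1 by
        rw [h ψ]; simp [H26.oneIrr_val],
      Finset.sum_const, nsmul_eq_mul, mul_one, H26.classIndicator, if_pos (IsConj.refl _),
      mul_one] at e
    have hle : (Finset.univ : Finset (Cfsg.IrrCharacter P)).card ≤ 1 :=
      Finset.card_le_one.2 fun u _ v _ => (h u).trans (h v).symm
    have hC : Subgroup.centralizer ({(1 : P)} : Set P) = ⊤ := by
      ext u; simp [Subgroup.mem_centralizer_singleton_iff]
    rw [hC, Subgroup.card_top, Nat.cast_inj] at e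
    exact hP1 (Subgroup.card_eq_one.1 (le_antisymm (e ▸ hle) Nat.card_pos))
  obtain ⟨ψ, hψ⟩ := hne
  have hψ1 : (ψ : P → ℂ) 1 = 1 := H26.irr_one_eq_one_of_comm
    (fun a b => Subtype.ext (hP a a.2 b b.2)) ψ
  have hsum : ∑ g : P, conj ((ψ : P → ℂ) g) = 0 := by
    rw [← map_sum]
    have h0 := H26.classInner_irr ψ (H26.oneIrr P)
    rw [if_neg hψ, Cfsg.classInner] at h0
    simp only [H26.oneIrr_val, map_one, mul_one] at h0
    rw [(mul_eq_zero.1 h0).resolve_left (by simp), map_zero]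
  refine ⟨mult ((χ : G → ℂ) ∘ P.subtype) ψ, ?_⟩
  rw [← classInner_eq_mult (H26.isCharacter_comp (H26.irr_isCharacter χ) P.subtype) ψ, Cfsg.classInner, ← mul_assoc,
    mul_inv_cancel₀ (Nat.cast_ne_zero.2 Nat.card_pos.ne'), one_mul]
  have e : ∀ g : P, (χ : G → ℂ) g * conj ((ψ : P → ℂ) g) =
      c * conj ((ψ : P → ℂ) g) + if g = 1 then (χ : G → ℂ) 1 - c else 0 := by
    intro g
    by_cases hg : g = 1
    · subst hg
      rw [if_pos rfl, hψ1, map_one, mul_one, mul_one, Subgroup.coe_one]; ring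
    · rw [if_neg hg, hc g g.2 (fun h => hg (Subtype.ext h)), add_zero]
  simp only [Function.comp_apply, Subgroup.coe_subtype]
  rw [Finset.sum_congr rfl fun g _ => e g, Finset.sum_add_distrib, ← Finset.mul_sum, hsum,
    mul_zero, zero_add, Finset.sum_ite_eq' Finset.univ (1 : P) fun _ => (χ : G → ℂ) 1 - c,
    if_pos (Finset.mem_univ _)]
  ring

/-- The sum of a class function over the `p`-singular elements, when there is a single class of
non-trivial `p`-elements. -/
theorem sum_singular (x : G) (hx : orderOf x = p)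
    (hcls : ∀ z : G, z ≠ 1 → (∃ k, orderOf z = p ^ k) → IsConj x z)
    (N : Subgroup (Subgroup.centralizer ({x} : Set G))) [Fintype N]
    (hN1 : ∀ k ∈ N, ¬ p ∣ orderOf (k : G))
    (hN2 : ∀ k : Subgroup.centralizer ({x} : Set G), ¬ p ∣ orderOf (k : G) → k ∈ N)
    [DecidableRel (IsConj (α := G))]
    (φ : G → ℂ) (hφ : Cfsg.IsClassFunction G φ) :
    ∑ g ∈ Finset.univ.filter (fun g : G => p ∣ orderOf g), φ g =
      ((Finset.univ.filter (IsConj x)).card : ℂ) * ∑ k : N, φ (x * ((k : Subgroup.centralizer ({x} : Set G)) : G)) := by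
  classical
  choose pp hpp using fun g : G => H40.exists_isPPart p g
  have hmaps : ∀ g ∈ Finset.univ.filter (fun g : G => p ∣ orderOf g),
      pp g ∈ Finset.univ.filter (IsConj x) := by
    intro g hg
    rw [Finset.mem_filter] at hg ⊢
    refine ⟨Finset.mem_univ _, hcls _ (fun h => ?_) ?_⟩
    · exact (H40.regular_iff_pPart_eq_one (hpp g)).2 h hg.2
    · obtain ⟨_, -, -, hk, -⟩ := hpp g
      exact hk
  rw [← Finset.sum_fiberwise_of_maps_to hmaps φ, ← smul_eq_mul (Finset.card _ : ℂ),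
    Nat.cast_smul_eq_nsmul ℂ, ← Finset.sum_const]
  refine Finset.sum_congr rfl fun z hz => ?_
  obtain ⟨u, hu⟩ := isConj_iff.1 (Finset.mem_filter.1 hz).2
  have hx' : ∃ k, orderOf x = p ^ k := ⟨1, by rw [hx, pow_one]⟩
  refine (Finset.sum_bij
    (fun (k : N) _ => u * (x * ((k : Subgroup.centralizer ({x} : Set G)) : G)) * u⁻¹) ?_ ?_ ?_ ?_).symm
  · intro k _
    have hc : Commute x ((k : Subgroup.centralizer ({x} : Set G)) : G) :=
      (Subgroup.mem_centralizer_singleton_iff.1 (k : Subgroup.centralizer ({x} : Set G)).2).symm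
    have hk := H40.isPPart_conj u (H40.isPPart_mul hc (j := 1) (by rw [hx, pow_one]) (hN1 _ k.2))
    rw [hu] at hk
    simp only [Finset.mem_filter, Finset.mem_univ, true_and]
    refine ⟨?_, H40.isPPart_unique (hpp _) hk⟩
    by_contra hreg
    have hz1 := (H40.regular_iff_pPart_eq_one hk).1 hreg
    rw [hz1, conj_eq_one_iff] at hu
    rw [hu, orderOf_one] at hx
    exact hp.out.ne_one hx.symm
  · intro k₁ _ k₂ _ h
    exact Subtype.ext (Subtype.ext (mul_left_cancel (mul_left_cancel (mul_right_cancel h))))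
  · intro g hg
    simp only [Finset.mem_filter, Finset.mem_univ, true_and] at hg
    have hk := H40.isPPart_conj u⁻¹ (hpp g)
    rw [hg.2, ← hu, inv_inv, show u⁻¹ * (u * x * u⁻¹) * u = x by group] at hk
    obtain ⟨y, hy, hc, -, hyr⟩ := hk
    have hyC : y ∈ Subgroup.centralizer ({x} : Set G) :=
      Subgroup.mem_centralizer_singleton_iff.2 hc.eq.symm
    refine ⟨⟨⟨y, hyC⟩, hN2 _ hyr⟩, Finset.mem_univ _, ?_⟩
    show u * (x * y) * u⁻¹ = g
    rw [hy]; group
  · intro k _
    exact (hφ _ u).symm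

set_option maxHeartbeats 1000000 in
/-- The main count. -/
theorem prime_eq_two_of_one_class (x : G) (hx : orderOf x = p) [IsSimpleGroup G]
    (hG : ∃ a b : G, a * b ≠ b * a) (P : Sylow p G) (hxP : x ∈ (P : Subgroup G))
    (hexp : ∀ g ∈ (P : Subgroup G), g ^ p = 1)
    (hab : ∀ g ∈ (P : Subgroup G), ∀ h ∈ (P : Subgroup G), g * h = h * g)
    (hcls : ∀ g ∈ (P : Subgroup G), g ≠ 1 → IsConj x g)
    (hC : Cfsg.HasNormalPComplement p (Subgroup.centralizer ({x} : Set G)))
    (hsol : ∀ a b : G, orderOf a = p → orderOf b = p →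
      Cfsg.IsPSolvable p (Subgroup.closure ({a, b} : Set G))) : p = 2 := by
  classical
  by_contra hp2
  -- `p`-elements and `p`-subgroups
  have hsub : ∀ T : Subgroup G, IsPGroup p T →
      ∃ u : G, ∀ a ∈ T, u * a * u⁻¹ ∈ (P : Subgroup G) := by
    intro T hT
    obtain ⟨Q, hQ⟩ := hT.exists_le_sylow
    obtain ⟨u, rfl⟩ := MulAction.exists_smul_eq G P Q
    refine ⟨u⁻¹, fun a ha => ?_⟩
    have := hQ ha
    rw [Sylow.coe_subgroup_smul, Subgroup.mem_pointwise_smul_iff_inv_smul_mem] at this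
    simpa [MulAut.smul_def, MulAut.conj_apply] using this
  have habT : ∀ T : Subgroup G, IsPGroup p T → ∀ a ∈ T, ∀ b ∈ T, a * b = b * a := by
    intro T hT a ha b hb
    obtain ⟨u, hu⟩ := hsub T hT
    have h := hab _ (hu a ha) _ (hu b hb)
    simp only [show ∀ s t : G, u * s * u⁻¹ * (u * t * u⁻¹) = u * (s * t) * u⁻¹ from
      fun s t => by group] at h
    exact mul_left_cancel (mul_right_cancel h)
  have hclsG : ∀ z : G, z ≠ 1 → (∃ k, orderOf z = p ^ k) → IsConj x z := by
    rintro z hz ⟨k, hk⟩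
    obtain ⟨u, hu⟩ := hsub (Subgroup.zpowers z) (IsPGroup.of_card (n := k)
      (by rw [Nat.card_zpowers, hk]))
    exact (hcls _ (hu z (Subgroup.mem_zpowers z)) (by simpa using hz)).trans
      (isConj_iff.2 ⟨u⁻¹, by group⟩)
  set C := Subgroup.centralizer ({x} : Set G) with hCdef
  haveI := Fintype.ofFinite C
  obtain ⟨Q, N, hNn, hQN⟩ := hC
  haveI := hNn
  haveI := Fintype.ofFinite N
  -- the complement
  have hPC : (P : Subgroup G) ≤ C := fun g hg =>
    Subgroup.mem_centralizer_singleton_iff.2 (hab g hg x hxP)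
  set PC := P.subtype hPC with hPCdef
  have hcardQ : Nat.card Q = Nat.card P := by
    rw [Nat.card_congr (Q.equiv PC).toEquiv, hPCdef]
    exact Nat.card_congr (Subgroup.subgroupOfEquivOfLe hPC).toEquiv
  set q := Nat.card P with hq
  have hidx : N.index = q := by rw [hQN.symm.index_eq_card]; exact hcardQ
  obtain ⟨r, hr⟩ := IsPGroup.iff_card.1 P.isPGroup'
  have hqr : q = p ^ r := hr
  have hNp : ¬ p ∣ Nat.card N := fun h => by
    have hmul := N.card_mul_index
    rw [hidx, ← hcardQ, Sylow.card_eq_multiplicity Q] at hmul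
    have : p ^ ((Nat.card C).factorization p + 1) ∣ Nat.card C := by
      obtain ⟨j, hj⟩ := h
      exact ⟨j, by rw [pow_succ]; nth_rewrite 1 [← hmul]; rw [hj]; ring⟩
    exact Nat.pow_succ_factorization_not_dvd Nat.card_pos.ne' hp.out this
  have hN1 : ∀ k ∈ N, ¬ p ∣ orderOf (k : G) := by
    intro k hk h
    rw [Subgroup.orderOf_coe] at h
    exact hNp (h.trans (Subgroup.orderOf_dvd_natCard _ hk))
  have hN2 : ∀ k : C, ¬ p ∣ orderOf (k : G) → k ∈ N := by
    intro k hk
    rw [Subgroup.orderOf_coe] at hk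
    refine (QuotientGroup.eq_one_iff k).1 (orderOf_eq_one_iff.1 ?_)
    have h1 : orderOf (k : C ⧸ N) ∣ orderOf k := orderOf_map_dvd (QuotientGroup.mk' N) k
    have h2 : orderOf (k : C ⧸ N) ∣ p ^ r := by
      rw [← hqr, ← hidx, Subgroup.index]; exact orderOf_dvd_natCard _
    exact Nat.eq_one_of_dvd_coprimes
      ((Nat.Prime.coprime_iff_not_dvd hp.out).2 hk |>.pow_left r) h2 h1
  -- the counting
  set cl := Finset.univ.filter (IsConj x) with hcl
  let φ : G → ℂ := fun g => if p ∣ orderOf g then 1 else 0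
  have hφ : Cfsg.IsClassFunction G φ := fun g h => by
    simp only [φ]
    rw [show h * g * h⁻¹ = MulAut.conj h g from rfl, MulEquiv.orderOf_eq]
  obtain ⟨M, hM⟩ := H42.exists_isPModular (p := p) hp.out
  haveI := hM.2.1
  have hxp : ∃ k, orderOf x = p ^ k := ⟨1, by rw [hx, pow_one]⟩
  set B := Cfsg.principalBlock M G with hB
  have hNcore : N ≤ Cfsg.pPrimeCore p C :=
    H19.le_pPrimeCore hNn ((Nat.Prime.coprime_iff_not_dvd hp.out).2 hNp).symm
  -- the block facts
  have hin : ∀ χ : Cfsg.IrrCharacter G, χ ∈ B →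
      ∑ k : N, (χ : G → ℂ) (x * ((k : C) : G)) = (Nat.card N : ℂ) * (χ : G → ℂ) x := by
    intro χ hχ
    rw [Finset.sum_congr rfl fun (k : N) _ => S0942.result p M hM x hxp ((k : C) : G)
      (Subgroup.mem_map_of_mem _ (hNcore k.2)) χ hχ, Finset.sum_const, Finset.card_univ,
      nsmul_eq_mul, Nat.card_eq_fintype_card]
  have hout : ∀ χ : Cfsg.IrrCharacter G, χ ∉ B →
      ∑ k : N, (χ : G → ℂ) (x * ((k : C) : G)) = 0 := by
    intro χ hχ
    have h := H40.sum_inducingSet_mul (x := x) hM hxp H41.isPBlock_principalBlock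
      (g := ⟨x, Subgroup.mem_centralizer_singleton_iff.2 rfl⟩)
      ⟨1, mul_one x, Commute.one_right x, hxp, by simp [hp.out.ne_one]⟩ χ
    rw [if_neg hχ, H41.inducingSet_principalBlock hM hxp] at h
    rw [Finset.sum_congr rfl fun k _ => by
      rw [H38.blockCoeff_principal_of_complement hM N hNp ⟨r, by rw [hidx, hqr]⟩ k, ite_mul,
        zero_mul], ← Finset.sum_filter] at h
    rw [Finset.sum_subtype (Finset.univ.filter (· ∈ N)) (p := (· ∈ N)) (fun k => by simp)
      (fun k => (Nat.card N : ℂ)⁻¹ * (χ : G → ℂ) ((k : G) * x)), ← Finset.mul_sum] at h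
    refine Eq.trans (Finset.sum_congr rfl fun k _ => ?_)
      ((mul_eq_zero.1 h).resolve_left (by simp))
    rw [Subgroup.mem_centralizer_singleton_iff.1 (k : C).2]
  -- the values at `x`
  have hP1 : (P : Subgroup G) ≠ ⊥ := fun h => by
    rw [h, Subgroup.mem_bot] at hxP
    rw [hxP, orderOf_one] at hx
    exact hp.out.ne_one hx.symm
  have hval : ∀ χ : Cfsg.IrrCharacter G, ∃ m : ℕ,
      (χ : G → ℂ) x = (Cfsg.charDegree (χ : G → ℂ) : ℂ) - (q : ℂ) * m ∧ (m = 0 → χ = H26.oneIrr G) := by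
    intro χ
    obtain ⟨m, hm⟩ := exists_eq_add_mul χ (P : Subgroup G) hab hP1 (c := (χ : G → ℂ) x)
      fun g hg hg1 => by
        obtain ⟨u, rfl⟩ := isConj_iff.1 (hcls g hg hg1)
        exact H26.irr_conj χ x u
    refine ⟨m, by rw [← H42.irr_one_eq, hm]; ring, fun hm0 => ?_⟩
    rw [hm0, Nat.cast_zero, mul_zero, add_zero] at hm
    have hker : charKer χ = ⊤ := by
      refine ((charKer_normal χ).eq_bot_or_eq_top).resolve_left fun h => ?_
      have : x ∈ charKer χ := mem_charKer.2 hm.symm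
      rw [h, Subgroup.mem_bot] at this
      rw [this, orderOf_one] at hx
      exact hp.out.ne_one hx.symm
    have hall : ∀ g : G, (χ : G → ℂ) g = (χ : G → ℂ) 1 := fun g =>
      mem_charKer.1 (hker ▸ Subgroup.mem_top g)
    by_contra hne
    have h0 := H26.classInner_irr χ (H26.oneIrr G)
    rw [if_neg hne, Cfsg.classInner, Finset.sum_congr rfl fun g _ => by
      rw [hall g, H26.oneIrr_val, map_one, mul_one]] at h0
    simp [H26.irr_one_ne_zero χ] at h0
  choose m hm hm0 using hval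
  let a : Cfsg.IrrCharacter G → ℤ := fun χ => (Cfsg.charDegree (χ : G → ℂ) : ℤ) - q * m χ
  have ha : ∀ χ : Cfsg.IrrCharacter G, (χ : G → ℂ) x = ((a χ : ℝ) : ℂ) := fun χ => by
    rw [hm χ]; simp [a]
  have hcardC : Nat.card C = Nat.card N * q := by rw [← hidx, N.card_mul_index]
  have hclC : cl.card * Nat.card C = Nat.card G := by
    rw [← H26.card_class_mul_card_centralizer x]
    congr 2
    ext g
    simp [hcl, ConjClasses.mk_eq_mk_iff_isConj]
    exact isConj_iff.symm.trans (isConj_comm.trans isConj_iff)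
  set Bs := Finset.univ.filter (· ∈ B) with hBs
  have hinner : ∀ χ : Cfsg.IrrCharacter G, Cfsg.classInner φ χ.1 =
      if χ ∈ B then (q : ℂ)⁻¹ * ((a χ : ℝ) : ℂ) else 0 := by
    intro χ
    rw [Cfsg.classInner]
    simp only [φ, ite_mul, one_mul, zero_mul]
    rw [← Finset.sum_filter, sum_singular x hx hclsG N hN1 hN2 (fun g => conj ((χ : G → ℂ) g))
      fun g h => by simp only [H26.irr_conj], ← map_sum]
    by_cases hχ : χ ∈ B
    · rw [if_pos hχ, hin χ hχ, ha χ, map_mul, Complex.conj_natCast, Complex.conj_ofReal,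
        ← hclC, hcardC]
      have : (cl.card : ℂ) ≠ 0 := Nat.cast_ne_zero.2
        (Finset.card_pos.2 ⟨x, Finset.mem_filter.2 ⟨Finset.mem_univ _, IsConj.refl x⟩⟩).ne'
      have : (Nat.card N : ℂ) ≠ 0 := Nat.cast_ne_zero.2 Nat.card_pos.ne'
      have : (q : ℂ) ≠ 0 := Nat.cast_ne_zero.2 Nat.card_pos.ne'
      push_cast
      field_simp
      rw [hcl]
    · rw [if_neg hχ, hout χ hχ, map_zero, mul_zero, mul_zero]
  have hcount := H38.sum_class_pair φ hφ x x
  rw [← hcl] at hcount
  simp only [hinner, ite_mul, zero_mul] at hcount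
  rw [← Finset.sum_filter] at hcount
  have hsing : ∑ y ∈ cl, ∑ z ∈ cl, φ (y * z) =
      ((((cl ×ˢ cl).filter fun w => p ∣ orderOf (w.1 * w.2)).card : ℕ) : ℂ) := by
    rw [← Finset.sum_product', Finset.sum_boole]
  rw [hsing] at hcount
  set n := ((cl ×ˢ cl).filter fun w => p ∣ orderOf (w.1 * w.2)).card
  set S : ℝ := ∑ χ ∈ Bs, (a χ : ℝ) * (a χ : ℝ) * (a χ : ℝ) / (Cfsg.charDegree (χ : G → ℂ) : ℝ)
    with hS
  have hnS : (n : ℝ) * q = (cl.card : ℝ) * cl.card * S := by
    have h : ((n : ℝ) : ℂ) * ((q : ℝ) : ℂ) = (((cl.card : ℝ) * cl.card * S : ℝ) : ℂ) := by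
      rw [Complex.ofReal_natCast, Complex.ofReal_natCast, hcount, hS]
      push_cast
      simp only [Finset.mul_sum, Finset.sum_mul]
      refine Finset.sum_congr rfl fun χ _ => ?_
      rw [ha χ, H42.irr_one_eq]
      have : (q : ℂ) ≠ 0 := Nat.cast_ne_zero.2 Nat.card_pos.ne'
      have : (Cfsg.charDegree (χ : G → ℂ) : ℂ) ≠ 0 :=
        Nat.cast_ne_zero.2 (H42.charDegree_pos χ).ne'
      push_cast
      field_simp
    rw [← Complex.ofReal_mul] at h
    exact Complex.ofReal_inj.1 h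
  -- at least half of the pairs have singular product
  have hhalf : cl.card * cl.card ≤ 2 * n := by
    set A := (cl ×ˢ cl).filter fun w => p ∣ orderOf (w.1 * w.2) with hA
    have horder : ∀ y ∈ cl, orderOf y = p := by
      intro y hy
      obtain ⟨u, rfl⟩ := isConj_iff.1 (Finset.mem_filter.1 hy).2
      rw [show u * x * u⁻¹ = MulAut.conj u x from rfl, MulEquiv.orderOf_eq, hx]
    have hinv : ∀ y ∈ cl, y⁻¹ ∈ cl := by
      intro y hy
      have h1 := horder y hy
      refine Finset.mem_filter.2 ⟨Finset.mem_univ _, hclsG _ ?_ ⟨1, by rw [orderOf_inv, h1, pow_one]⟩⟩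
      intro h
      rw [inv_eq_one] at h
      rw [h, orderOf_one] at h1
      exact hp.out.ne_one h1.symm
    have hsub2 : cl ×ˢ cl ⊆ A ∪ A.image fun w => (w.1, w.2⁻¹) := by
      intro w hw
      obtain ⟨hw1, hw2⟩ := Finset.mem_product.1 hw
      by_cases h : p ∣ orderOf (w.1 * w.2)
      · exact Finset.mem_union_left _ (Finset.mem_filter.2 ⟨hw, h⟩)
      · refine Finset.mem_union_right _ (Finset.mem_image.2 ⟨(w.1, w.2⁻¹), ?_, by simp⟩)
        refine Finset.mem_filter.2 ⟨Finset.mem_product.2 ⟨hw1, hinv _ hw2⟩, ?_⟩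
        by_contra h'
        exact not_both_regular hp2 habT (horder _ hw1) (horder _ hw2)
          (hsol _ _ (horder _ hw1) (horder _ hw2)) ⟨h, h'⟩
    calc cl.card * cl.card = (cl ×ˢ cl).card := (Finset.card_product _ _).symm
      _ ≤ (A ∪ A.image fun w => (w.1, w.2⁻¹)).card := Finset.card_le_card hsub2
      _ ≤ A.card + (A.image fun w => (w.1, w.2⁻¹)).card := Finset.card_union_le _ _
      _ ≤ A.card + A.card := Nat.add_le_add_left Finset.card_image_le _
      _ = 2 * n := (two_mul _).symm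
  -- the square sum over the block
  have hsq : ∑ χ ∈ Bs, a χ * a χ ≤ (q : ℤ) := by
    have hgC : x ∈ C := Subgroup.mem_centralizer_singleton_iff.2 rfl
    have h := H41.sum_principalBlock_section hM hxp (g := ⟨x, hgC⟩)
      ⟨1, mul_one x, Commute.one_right x, hxp, by simp [hp.out.ne_one]⟩
    rw [H38.principalBlock_eq_of_complement hM N hNp ⟨r, by rw [hidx, hqr]⟩] at h
    have hcen : (⟨x, hgC⟩ : C) ∈ Subgroup.center C := Subgroup.mem_center_iff.2 fun y =>
      Subtype.ext (Subgroup.mem_centralizer_singleton_iff.1 y.2)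
    have h2 : ∀ ψ : Cfsg.IrrCharacter C, (ψ : C → ℂ) ⟨x, hgC⟩ * conj ((ψ : C → ℂ) ⟨x, hgC⟩) =
        (ψ : C → ℂ) 1 * conj ((ψ : C → ℂ) 1) := fun ψ => by
      rw [Complex.mul_conj', Complex.mul_conj', ← H41.norm_central_mul ψ hcen 1, mul_one]
    rw [Finset.sum_congr rfl fun ψ _ => h2 ψ] at h
    simp only [Set.mem_setOf_eq] at h
    have hR : ∀ s : Finset (Cfsg.IrrCharacter C),
        (∀ ψ, ψ ∈ s ↔ ∀ n ∈ N, (ψ : C → ℂ) n = (ψ : C → ℂ) 1) →
        ∑ ψ ∈ s, (ψ : C → ℂ) 1 * conj ((ψ : C → ℂ) 1) = (N.index : ℂ) := fun s hs => by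
      refine Eq.trans ?_ (H41.sum_degree_sq_trivial_on N)
      rw [← Finset.sum_filter]
      exact Finset.sum_congr (Finset.ext fun ψ => by simp [hs]) fun _ _ => rfl
    rw [hR _ fun ψ => by simp only [Finset.mem_filter, Finset.mem_univ, true_and]; exact Iff.rfl] at h
    rw [hidx] at h
    have h3 : ((∑ χ ∈ Bs, a χ * a χ : ℤ) : ℂ) = ((q : ℤ) : ℂ) := by
      rw [Int.cast_natCast, ← h, Int.cast_sum]
      refine Finset.sum_congr rfl fun χ _ => ?_
      rw [ha χ, Complex.conj_ofReal]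
      push_cast
      rfl
    exact (Int.cast_injective h3).le
  -- a negative value
  have hone : H26.oneIrr G ∈ Bs :=
    Finset.mem_filter.2 ⟨Finset.mem_univ _, H41.sameBlock_refl _⟩
  have hzero : ∑ χ ∈ Bs, (Cfsg.charDegree (χ : G → ℂ) : ℤ) * a χ = 0 := by
    have h := H40.sum_block_mul_conj_eq_zero_of_section hM (H41.isPBlock_principalBlock (G := G))
      (H40.isPPart_of_regular (y := (1 : G)) (by simp [hp.out.ne_one]))
      (show Cfsg.IsPPart p x x from ⟨1, mul_one x, Commute.one_right x, hxp, by simp [hp.out.ne_one]⟩)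
      (fun h => by
        rw [isConj_one_right] at h
        rw [h, orderOf_one] at hx
        exact hp.out.ne_one hx.symm)
    apply Int.cast_injective (α := ℂ)
    rw [Int.cast_sum, Int.cast_zero, ← h]
    refine Finset.sum_congr rfl fun χ _ => ?_
    rw [ha χ, H42.irr_one_eq, Complex.conj_ofReal]
    push_cast
    rfl
  have hd1 : Cfsg.charDegree ((H26.oneIrr G : Cfsg.IrrCharacter G) : G → ℂ) = 1 :=
    H42.charDegree_of_eq_nat (n := 1) (by simp [H26.oneIrr_val])
  have ha1 : a (H26.oneIrr G) = 1 := by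
    have := ha (H26.oneIrr G)
    rw [H26.oneIrr_val] at this
    exact_mod_cast this.symm
  obtain ⟨χ₀, hχ₀, hneg⟩ : ∃ χ ∈ Bs.erase (H26.oneIrr G), a χ < 0 := by
    by_contra! hpos
    rw [← Finset.add_sum_erase _ _ hone, ha1, hd1, Nat.cast_one, mul_one] at hzero
    have : 0 ≤ ∑ χ ∈ Bs.erase (H26.oneIrr G), (Cfsg.charDegree (χ : G → ℂ) : ℤ) * a χ :=
      Finset.sum_nonneg fun χ hχ => mul_nonneg (Int.natCast_nonneg _) (hpos χ hχ)
    omega
  -- the bound
  have hterm : ∀ χ ∈ (Bs.erase (H26.oneIrr G)).erase χ₀,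
      (a χ : ℝ) * (a χ : ℝ) * (a χ : ℝ) / (Cfsg.charDegree (χ : G → ℂ) : ℝ) ≤
        (a χ : ℝ) * (a χ : ℝ) / 4 := by
    intro χ hχ
    have hd : (0 : ℝ) < (Cfsg.charDegree (χ : G → ℂ) : ℝ) :=
      Nat.cast_pos.2 (H42.charDegree_pos χ)
    rw [div_le_div_iff₀ hd (by norm_num)]
    rcases le_or_gt (a χ) 0 with hle | hlt
    · have h1 : (a χ : ℝ) ≤ 0 := by exact_mod_cast hle
      nlinarith [mul_self_nonneg (a χ : ℝ)]
    · have hne := Finset.ne_of_mem_erase (Finset.mem_of_mem_erase hχ)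
      have hmpos : 1 ≤ m χ := Nat.one_le_iff_ne_zero.2 fun h => hne (hm0 χ h)
      have hda : (q : ℤ) + a χ ≤ Cfsg.charDegree (χ : G → ℂ) := by
        have : (q : ℤ) * 1 ≤ q * (m χ : ℤ) :=
          mul_le_mul_of_nonneg_left (by exact_mod_cast hmpos) (Int.natCast_nonneg _)
        simp only [a]; linarith
      have h3 : a χ * a χ + 2 ≤ (q : ℤ) := by
        refine le_trans ?_ hsq
        rw [← Finset.add_sum_erase _ _ hone, ← Finset.add_sum_erase _ _ hχ₀,
          ← Finset.add_sum_erase _ _ hχ, ha1]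
        have : 0 ≤ ∑ ψ ∈ ((Bs.erase (H26.oneIrr G)).erase χ₀).erase χ, a ψ * a ψ :=
          Finset.sum_nonneg fun ψ _ => mul_self_nonneg _
        nlinarith
      have h4 : 4 * a χ ≤ (Cfsg.charDegree (χ : G → ℂ) : ℤ) := by
        have hq3' : (3 : ℤ) ≤ q := by
          have : 1 ≤ a χ * a χ := one_le_mul_of_one_le_of_one_le (by omega) (by omega)
          linarith
        rcases eq_or_lt_of_le (show (1 : ℤ) ≤ a χ by omega) with h | h
        · rw [← h] at hda ⊢
          linarith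
        · nlinarith
      have h5 : 4 * (a χ : ℝ) ≤ (Cfsg.charDegree (χ : G → ℂ) : ℝ) := by exact_mod_cast h4
      nlinarith [mul_self_nonneg (a χ : ℝ)]
  have hSle : S ≤ 1 + ((q : ℝ) - 2) / 4 := by
    rw [hS, ← Finset.add_sum_erase _ _ hone, ← Finset.add_sum_erase _ _ hχ₀, ha1, hd1]
    have h1 : (a χ₀ : ℝ) * (a χ₀ : ℝ) * (a χ₀ : ℝ) / (Cfsg.charDegree (χ₀ : G → ℂ) : ℝ) ≤ 0 := by
      refine div_nonpos_of_nonpos_of_nonneg ?_ (Nat.cast_nonneg _)
      exact mul_nonpos_of_nonneg_of_nonpos (mul_self_nonneg _) (by exact_mod_cast hneg.le)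
    have h2 : ∑ χ ∈ (Bs.erase (H26.oneIrr G)).erase χ₀,
        (a χ : ℝ) * (a χ : ℝ) / 4 ≤ ((q : ℝ) - 2) / 4 := by
      rw [← Finset.sum_div]
      refine div_le_div_of_nonneg_right ?_ (by norm_num)
      have h := hsq
      rw [← Finset.add_sum_erase _ _ hone, ← Finset.add_sum_erase _ _ hχ₀, ha1] at h
      have h0 : 1 ≤ a χ₀ * a χ₀ := by nlinarith
      have : ∑ χ ∈ (Bs.erase (H26.oneIrr G)).erase χ₀, a χ * a χ ≤ (q : ℤ) - 2 := by linarith
      exact_mod_cast this
    have h3 := (Finset.sum_le_sum hterm).trans h2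
    push_cast at *
    linarith
  have hq3 : 3 ≤ q := by
    have h1 : p ≤ q := Nat.le_of_dvd Nat.card_pos (hx ▸ Subgroup.orderOf_dvd_natCard _ hxP)
    have h2 := hp.out.two_le
    omega
  have hc1 : (1 : ℝ) ≤ cl.card := by
    exact_mod_cast Finset.card_pos.2 ⟨x, Finset.mem_filter.2 ⟨Finset.mem_univ _, IsConj.refl x⟩⟩
  have h6 : (cl.card : ℝ) * cl.card ≤ 2 * n := by exact_mod_cast hhalf
  have h7 : (3 : ℝ) ≤ q := by exact_mod_cast hq3
  have h8 : (cl.card : ℝ) * cl.card * q ≤ (cl.card : ℝ) * cl.card * (2 * S) := by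
    calc (cl.card : ℝ) * cl.card * q ≤ 2 * n * q := mul_le_mul_of_nonneg_right h6 (Nat.cast_nonneg _)
      _ = _ := by rw [mul_assoc, hnS]; ring
  have h9 := le_of_mul_le_mul_left h8 (mul_pos (by linarith) (by linarith))
  linarith

end Cfsg.Agent.H43
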