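import Mathlib
import Cfsg.Prelude.Def_Transfer

/-!
Building elementary abelian subgroups one generator at a time, and a translation lemma for
coprime conjugation.
-/

set_option autoImplicit false

namespace Cfsg.Agent.H43

open Cfsg

variable {G : Type*} [Group G]

theorem elemAb_comm {q : ℕ} {A : Subgroup G} (hA : IsElementaryAbelian q A) {a b : G}
    (ha : a ∈ A) (hb : b ∈ A) : a * b = b * a := by
  haveI := hA.1
  exact congrArg Subtype.val (mul_comm' (⟨a, ha⟩ : A) ⟨b, hb⟩)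

theorem elemAb_le_centralizer {q : ℕ} {A B : Subgroup G} (hA : IsElementaryAbelian q A)
    (hB : B ≤ A) : A ≤ Subgroup.centralizer (B : Set G) :=
  fun _ ha => Subgroup.mem_centralizer_iff.2 fun _ hb => elemAb_comm hA (hB hb) ha

theorem elemAb_of_le {q : ℕ} {A B : Subgroup G} (hA : IsElementaryAbelian q A) (hB : B ≤ A) :
    IsElementaryAbelian q B :=
  ⟨⟨⟨fun a b => Subtype.ext (elemAb_comm hA (hB a.2) (hB b.2))⟩⟩, fun a ha => hA.2 a (hB ha)⟩

theorem elemAb_zpowers {q : ℕ} {c : G} (hc : c ^ q = 1) :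
    IsElementaryAbelian q (Subgroup.zpowers c) := by
  refine ⟨inferInstance, fun a ha => ?_⟩
  obtain ⟨i, rfl⟩ := Subgroup.mem_zpowers_iff.1 ha
  rw [← zpow_natCast, ← zpow_mul, mul_comm, zpow_mul, zpow_natCast, hc, one_zpow]

/-- Membership in `B ⊔ ⟨c⟩` when `c` normalizes `B`. -/
theorem mem_sup_zpowers {B : Subgroup G} {c x : G} (hc : c ∈ Subgroup.normalizer (B : Set G))
    (hx : x ∈ B ⊔ Subgroup.zpowers c) : ∃ b ∈ B, ∃ i : ℤ, x = b * c ^ i := by
  have h1 : Subgroup.zpowers c ≤ Subgroup.normalizer (B : Set G) := Subgroup.zpowers_le.2 hc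
  rw [← SetLike.mem_coe, Subgroup.coe_mul_of_right_le_normalizer_left B (Subgroup.zpowers c) h1] at hx
  obtain ⟨b, hb, d, hd, rfl⟩ := Set.mem_mul.1 hx
  obtain ⟨i, rfl⟩ := Subgroup.mem_zpowers_iff.1 hd
  exact ⟨b, hb, i, rfl⟩

theorem mem_normalizer_of_commute {B : Subgroup G} {c : G} (hc : ∀ b ∈ B, b * c = c * b) :
    c ∈ Subgroup.normalizer (B : Set G) :=
  Subgroup.centralizer_le_normalizer _ (Subgroup.mem_centralizer_iff.2 hc)

theorem elemAb_sup_zpowers {q : ℕ} {B : Subgroup G} (hB : IsElementaryAbelian q B) {c : G}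
    (hc : c ^ q = 1) (hcomm : ∀ b ∈ B, b * c = c * b) :
    IsElementaryAbelian q (B ⊔ Subgroup.zpowers c) := by
  have hn := mem_normalizer_of_commute hcomm
  have hcc : ∀ b ∈ B, ∀ i : ℤ, Commute b (c ^ i) := fun b hb i =>
    Commute.zpow_right (hcomm b hb) i
  refine ⟨⟨⟨fun x y => Subtype.ext ?_⟩⟩, fun x hx => ?_⟩
  · obtain ⟨b, hb, i, hx⟩ := mem_sup_zpowers hn x.2
    obtain ⟨b', hb', j, hy⟩ := mem_sup_zpowers hn y.2
    show (x : G) * y = y * x
    rw [hx, hy]
    have hbb : Commute b b' := elemAb_comm hB hb hb'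
    exact (((hbb.mul_right (hcc b hb j))).mul_left
      ((hcc b' hb' i).symm.mul_right (Commute.zpow_zpow_self c i j))).eq
  · obtain ⟨b, hb, i, rfl⟩ := mem_sup_zpowers hn hx
    rw [(hcc b hb i).mul_pow, hB.2 b hb, one_mul, ← zpow_natCast, ← zpow_mul, mul_comm, zpow_mul,
      zpow_natCast, hc, one_zpow]

/-- Adding an element of prime order outside `B` multiplies the order by that prime. -/
theorem card_sup_zpowers [Finite G] {q : ℕ} (hq : q.Prime) {B : Subgroup G} {c : G}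
    (hc : c ^ q = 1) (hcB : c ∉ B) (hcomm : ∀ b ∈ B, b * c = c * b) :
    Nat.card ↥(B ⊔ Subgroup.zpowers c) = q * Nat.card B := by
  haveI := Fact.mk hq
  have hn := mem_normalizer_of_commute hcomm
  have ho : orderOf c = q := orderOf_eq_prime hc (fun h => hcB (h ▸ one_mem B))
  have hinf : Subgroup.zpowers c ⊓ B = ⊥ := by
    rw [eq_bot_iff]
    intro x hx
    by_contra hx1
    have hcard : Nat.card ↥(Subgroup.zpowers c) = q := by rw [Nat.card_zpowers, ho]
    have hsub : Subgroup.zpowers x = Subgroup.zpowers c := by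
      refine Subgroup.eq_of_le_of_card_ge (Subgroup.zpowers_le.2 hx.1) ?_
      rw [hcard, Nat.card_zpowers]
      have hd : orderOf x ∣ q := by
        rw [← hcard]
        exact Subgroup.orderOf_dvd_natCard _ hx.1
      rcases (Nat.dvd_prime hq).1 hd with h | h
      · exact absurd (orderOf_eq_one_iff.1 h) (fun h' => hx1 (h' ▸ one_mem _))
      · rw [h]
    refine hcB ?_
    have : c ∈ Subgroup.zpowers x := hsub ▸ Subgroup.mem_zpowers c
    exact Subgroup.zpowers_le.2 hx.2 this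
  have hf : Function.Bijective (fun bd : B × Subgroup.zpowers c =>
      (⟨(bd.1 : G) * bd.2, Subgroup.mul_mem_sup bd.1.2 bd.2.2⟩ :
        ↥(B ⊔ Subgroup.zpowers c))) := by
    constructor
    · intro u v huv
      have h' : (u.1 : G) * u.2 = v.1 * v.2 := congrArg Subtype.val huv
      have h2 : (v.2 : G) * (u.2 : G)⁻¹ ∈ Subgroup.zpowers c ⊓ B := by
        refine ⟨Subgroup.mul_mem _ v.2.2 (Subgroup.inv_mem _ u.2.2), ?_⟩
        have : (v.2 : G) * (u.2 : G)⁻¹ = (v.1 : G)⁻¹ * u.1 := by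
          rw [eq_inv_mul_iff_mul_eq, ← mul_assoc, ← h', mul_inv_cancel_right]
        rw [this]
        exact Subgroup.mul_mem _ (Subgroup.inv_mem _ v.1.2) u.1.2
      rw [hinf, Subgroup.mem_bot, mul_inv_eq_one] at h2
      rw [h2] at h'
      exact Prod.ext (Subtype.ext (mul_right_cancel h')) (Subtype.ext h2.symm)
    · rintro ⟨x, hx⟩
      obtain ⟨b, hb, i, rfl⟩ := mem_sup_zpowers hn hx
      exact ⟨(⟨b, hb⟩, ⟨c ^ i, zpow_mem (Subgroup.mem_zpowers c) i⟩), rfl⟩
  rw [← Nat.card_eq_of_bijective _ hf, Nat.card_prod, Nat.card_zpowers, ho, mul_comm]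

/-- Two commuting involutions generate a four-group. -/
theorem exists_four [Finite G] {z d : G} (hz : z * z = 1) (hd : d * d = 1) (hz1 : z ≠ 1)
    (hd1 : d ≠ 1) (hdz : d ≠ z) (hzd : z * d = d * z) :
    ∃ A : Subgroup G, IsElementaryAbelian 2 A ∧ Nat.card A = 4 ∧ z ∈ A ∧ d ∈ A ∧
      ∀ x ∈ A, x = 1 ∨ x = z ∨ x = d ∨ x = z * d := by
  have hz2 : z ^ 2 = 1 := by rw [pow_two, hz]
  have hd2 : d ^ 2 = 1 := by rw [pow_two, hd]
  have hmem : ∀ {u : G}, u * u = 1 → ∀ x ∈ Subgroup.zpowers u, x = 1 ∨ x = u := by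
    intro u hu x hx
    obtain ⟨i, rfl⟩ := Subgroup.mem_zpowers_iff.1 hx
    rcases Int.even_or_odd i with ⟨k, rfl⟩ | ⟨k, rfl⟩
    · left; rw [← two_mul, zpow_mul, zpow_two, hu, one_zpow]
    · right; rw [zpow_add, zpow_mul, zpow_two, hu, one_zpow, one_mul, zpow_one]
  have hcomm : ∀ b ∈ Subgroup.zpowers z, b * d = d * b := by
    intro b hb
    rcases hmem hz b hb with rfl | rfl
    · rw [one_mul, mul_one]
    · exact hzd
  have hdn : d ∉ Subgroup.zpowers z := fun h => by
    rcases hmem hz d h with h | h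
    · exact hd1 h
    · exact hdz h
  refine ⟨Subgroup.zpowers z ⊔ Subgroup.zpowers d, elemAb_sup_zpowers (elemAb_zpowers hz2) hd2 hcomm,
    ?_, Subgroup.mem_sup_left (Subgroup.mem_zpowers z), Subgroup.mem_sup_right (Subgroup.mem_zpowers d),
    fun x hx => ?_⟩
  · rw [card_sup_zpowers Nat.prime_two hd2 hdn hcomm, Nat.card_zpowers,
      orderOf_eq_prime hz2 hz1]
  · obtain ⟨b, hb, i, rfl⟩ := mem_sup_zpowers (mem_normalizer_of_commute hcomm) hx
    rcases hmem hz b hb with rfl | rfl <;>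
      rcases hmem hd _ (zpow_mem (Subgroup.mem_zpowers d) i) with h | h <;> rw [h] <;> simp

/-- Three commuting involutions, independent, generate a group of order eight. -/
theorem exists_eight [Finite G] {z d e : G} (hz : z * z = 1) (hd : d * d = 1) (he : e * e = 1)
    (hz1 : z ≠ 1) (hd1 : d ≠ 1) (hdz : d ≠ z) (he1 : e ≠ 1) (hez : e ≠ z) (hed : e ≠ d)
    (hezd : e ≠ z * d) (hzd : z * d = d * z) (hze : z * e = e * z) (hde : d * e = e * d) :
    ∃ A : Subgroup G, IsElementaryAbelian 2 A ∧ Nat.card A = 8 ∧ z ∈ A ∧ d ∈ A ∧ e ∈ A ∧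
      ∀ S : Subgroup G, z ∈ S → d ∈ S → e ∈ S → A ≤ S := by
  obtain ⟨A, hA, hAc, hzA, hdA, hel⟩ := exists_four hz hd hz1 hd1 hdz hzd
  have hcomm : ∀ b ∈ A, b * e = e * b := by
    intro b hb
    rcases hel b hb with rfl | rfl | rfl | rfl
    · rw [one_mul, mul_one]
    · exact hze
    · exact hde
    · rw [mul_assoc, hde, ← mul_assoc, hze, mul_assoc]
  have hen : e ∉ A := fun h => by
    rcases hel e h with h | h | h | h
    · exact he1 h
    · exact hez h
    · exact hed h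
    · exact hezd h
  have he2 : e ^ 2 = 1 := by rw [pow_two, he]
  refine ⟨A ⊔ Subgroup.zpowers e, elemAb_sup_zpowers hA he2 hcomm, ?_, Subgroup.mem_sup_left hzA,
    Subgroup.mem_sup_left hdA, Subgroup.mem_sup_right (Subgroup.mem_zpowers e),
    fun S h1 h2 h3 => sup_le (fun x hx => ?_) (Subgroup.zpowers_le.2 h3)⟩
  · rw [card_sup_zpowers Nat.prime_two he2 hen hcomm, hAc]
  · rcases hel x hx with rfl | rfl | rfl | rfl
    · exact one_mem S
    · exact h1
    · exact h2
    · exact mul_mem h1 h2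

/-- If conjugation by `c` translates `u` by a `v` it fixes, then the order of `v` divides that
of `c`. -/
theorem pow_eq_one_of_translate {c u v : G} {m : ℕ} (hcm : c ^ m = 1)
    (hu : c * u * c⁻¹ = u * v) (hv : c * v * c⁻¹ = v) : v ^ m = 1 := by
  have key : ∀ i : ℕ, c ^ i * u * (c ^ i)⁻¹ = u * v ^ i := by
    intro i
    induction i with
    | zero => simp
    | succ i ih =>
      have hv' : c * v ^ i * c⁻¹ = v ^ i := by
        rw [← MulAut.conj_apply, map_pow, MulAut.conj_apply, hv]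
      calc c ^ (i + 1) * u * (c ^ (i + 1))⁻¹ = c * (c ^ i * u * (c ^ i)⁻¹) * c⁻¹ := by
            rw [pow_succ']; group
        _ = c * (u * v ^ i) * c⁻¹ := by rw [ih]
        _ = (c * u * c⁻¹) * (c * v ^ i * c⁻¹) := by group
        _ = u * v ^ (i + 1) := by rw [hu, hv', mul_assoc, ← pow_succ']
  have := key m
  rw [hcm, one_mul, inv_one, mul_one] at this
  exact mul_left_cancel (this.symm.trans (mul_one u).symm)

/-- In a `2`-subgroup the only element killed by an odd exponent is trivial. -/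
theorem eq_one_of_two_group_pow {C : Subgroup G} (hC : IsPGroup 2 C) {v : G} (hv : v ∈ C) {m : ℕ}
    (hm : Odd m) (h : v ^ m = 1) : v = 1 := by
  obtain ⟨k, hk⟩ := hC ⟨v, hv⟩
  have hk' : v ^ 2 ^ k = 1 := by simpa using congrArg Subtype.val hk
  have h1 := orderOf_dvd_of_pow_eq_one h
  have h2 := orderOf_dvd_of_pow_eq_one hk'
  exact orderOf_eq_one_iff.1 (Nat.eq_one_of_dvd_coprimes
    ((Nat.coprime_two_right.2 hm).pow_right k) h1 h2)

/-- An element fixed by `c ^ 2`, where `c` has odd exponent, is fixed by `c`. -/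
theorem fix_of_sq_fix {c u : G} {m : ℕ} (hm : Odd m) (hcm : c ^ m = 1)
    (h : c ^ 2 * u * (c ^ 2)⁻¹ = u) : c * u * c⁻¹ = u := by
  obtain ⟨k, rfl⟩ := hm
  have hc : (c ^ 2) ^ (k + 1) = c := by
    rw [← pow_mul, show 2 * (k + 1) = 2 * k + 1 + 1 by ring, pow_succ, hcm, one_mul]
  have h' : Commute (c ^ 2) u := mul_inv_eq_iff_eq_mul.1 h
  have h'' := h'.pow_left (k + 1)
  rw [hc] at h''
  exact mul_inv_eq_iff_eq_mul.2 h''.eq

end Cfsg.Agent.H43
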