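import Mathlib
import Cfsg.Agent.H43.ElementaryBuild
import Cfsg.Agent.H20.Hyperplane

/-!
An elementary abelian `p`-group acting on a 2-group of class at most two whose centre has a single
involution: each hyperplane with a moved fixed-point group supplies a pair of moved elements.
-/

set_option autoImplicit false

namespace Cfsg.Agent.H43

open Cfsg

variable {G : Type*} [Group G]

/-- `C` is a 2-group of class at most two with squares central and a unique central involution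
`z`, acted upon by the elementary abelian `p`-group `P`, which fixes `z`. -/
structure TwoData (p : ℕ) (P C : Subgroup G) (z : G) : Prop where
  two : IsPGroup 2 C
  sq : ∀ x ∈ C, x * x ∈ C ⊓ Subgroup.centralizer (C : Set G)
  comm : ∀ x ∈ C, ∀ y ∈ C, x * y * x⁻¹ * y⁻¹ ∈ C ⊓ Subgroup.centralizer (C : Set G)
  omega : ∀ u ∈ C ⊓ Subgroup.centralizer (C : Set G), u * u = 1 → u = 1 ∨ u = z
  norm : P ≤ Subgroup.normalizer (C : Set G)
  elem : IsElementaryAbelian p P
  fix : ∀ c ∈ P, c * z * c⁻¹ = z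
  zmem : z ∈ C ⊓ Subgroup.centralizer (C : Set G)
  zsq : z * z = 1
  odd : Odd p

theorem conj_mem_of_normalizer {C : Subgroup G} {c x : G}
    (hc : c ∈ Subgroup.normalizer (C : Set G)) (hx : x ∈ C) : c * x * c⁻¹ ∈ C :=
  (Subgroup.mem_normalizer_iff.1 hc x).1 hx

theorem conj_mem_center {C : Subgroup G} {c x : G}
    (hc : c ∈ Subgroup.normalizer (C : Set G)) (hx : x ∈ C ⊓ Subgroup.centralizer (C : Set G)) :
    c * x * c⁻¹ ∈ C ⊓ Subgroup.centralizer (C : Set G) := by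
  refine ⟨conj_mem_of_normalizer hc hx.1, Subgroup.mem_centralizer_iff.2 fun y hy => ?_⟩
  have h1 : c⁻¹ * y * c ∈ C := by
    simpa using conj_mem_of_normalizer (Subgroup.inv_mem _ hc) hy
  have h2 := Subgroup.mem_centralizer_iff.1 hx.2 _ h1
  calc y * (c * x * c⁻¹) = c * ((c⁻¹ * y * c) * x) * c⁻¹ := by group
    _ = c * (x * (c⁻¹ * y * c)) * c⁻¹ := by rw [h2]
    _ = c * x * c⁻¹ * y := by group

namespace TwoData

variable {p : ℕ} {P C : Subgroup G} {z : G}

theorem pow_p (h : TwoData p P C z) {c : G} (hc : c ∈ P) : c ^ p = 1 := h.elem.2 c hc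

theorem center_comm (_h : TwoData p P C z) {u : G}
    (hu : u ∈ C ⊓ Subgroup.centralizer (C : Set G)) {x : G} (hx : x ∈ C) : u * x = x * u :=
  (Subgroup.mem_centralizer_iff.1 hu.2 x hx).symm

/-- `P` centralizes the centre of `C`. -/
theorem center_fixed [Finite G] (h : TwoData p P C z) {c : G} (hc : c ∈ P) :
    ∀ u ∈ C ⊓ Subgroup.centralizer (C : Set G), c * u * c⁻¹ = u := by
  suffices key : ∀ (n : ℕ) (u : G), orderOf u = n →
      u ∈ C ⊓ Subgroup.centralizer (C : Set G) → c * u * c⁻¹ = u from fun u hu => key _ u rfl hu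
  intro n
  induction n using Nat.strong_induction_on with
  | _ n ih =>
    intro u hn hu
    rcases eq_or_ne u 1 with rfl | hu1
    · simp
    have hlt : orderOf (u * u) < n := by
      obtain ⟨k, hk⟩ := IsPGroup.iff_orderOf.1 h.two ⟨u, hu.1⟩
      rw [Subgroup.orderOf_mk] at hk
      have hk0 : k ≠ 0 := by
        rintro rfl
        exact hu1 (orderOf_eq_one_iff.1 (by simpa using hk))
      rw [← pow_two, orderOf_pow_of_dvd two_ne_zero (hk ▸ dvd_pow_self 2 hk0), ← hn, hk]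
      exact Nat.div_lt_self (by positivity) one_lt_two
    have h2 := ih _ hlt (u * u) rfl (Subgroup.mul_mem _ hu hu)
    set v := u⁻¹ * (c * u * c⁻¹) with hv
    have hcu : c * u * c⁻¹ ∈ C ⊓ Subgroup.centralizer (C : Set G) :=
      conj_mem_center (h.norm hc) hu
    have hvm : v ∈ C ⊓ Subgroup.centralizer (C : Set G) :=
      Subgroup.mul_mem _ (Subgroup.inv_mem _ hu) hcu
    have hcomm : u⁻¹ * (c * u * c⁻¹) = (c * u * c⁻¹) * u⁻¹ :=
      h.center_comm (Subgroup.inv_mem _ hu) hcu.1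
    have hvv : v * v = 1 := by
      calc v * v = u⁻¹ * ((c * u * c⁻¹) * u⁻¹) * (c * u * c⁻¹) := by rw [hv]; group
        _ = u⁻¹ * (u⁻¹ * (c * u * c⁻¹)) * (c * u * c⁻¹) := by rw [← hcomm]
        _ = (u * u)⁻¹ * (c * (u * u) * c⁻¹) := by group
        _ = 1 := by rw [h2, inv_mul_cancel]
    have hfix : c * v * c⁻¹ = v := by
      rcases h.omega v hvm hvv with hh | hh
      · rw [hh, mul_one, mul_inv_cancel]
      · rw [hh]; exact h.fix c hc
    have hu' : c * u * c⁻¹ = u * v := by rw [hv, mul_inv_cancel_left]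
    rw [hu', eq_one_of_two_group_pow h.two hvm.1 h.odd (pow_eq_one_of_translate (h.pow_p hc) hu' hfix),
      mul_one]

/-- Commutators in `C` lie in `{1, z}`. -/
theorem comm_val (h : TwoData p P C z) {x y : G} (hx : x ∈ C) (hy : y ∈ C) :
    ∃ κ, (κ = 1 ∨ κ = z) ∧ x * y = κ * (y * x) ∧ κ * κ = 1 ∧
      κ ∈ C ⊓ Subgroup.centralizer (C : Set G) := by
  set κ := x * y * x⁻¹ * y⁻¹ with hκ
  have hm := h.comm x hx y hy
  have hxy : x * y = κ * (y * x) := by rw [hκ]; group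
  have h2 : κ * κ = 1 := by
    have e1 : x * x * y = κ * κ * (y * (x * x)) := by
      calc x * x * y = x * (x * y) := mul_assoc _ _ _
        _ = x * (κ * (y * x)) := by rw [hxy]
        _ = x * κ * (y * x) := (mul_assoc _ _ _).symm
        _ = κ * x * (y * x) := by rw [h.center_comm hm hx]
        _ = κ * (x * y) * x := by group
        _ = κ * (κ * (y * x)) * x := by rw [hxy]
        _ = κ * κ * (y * (x * x)) := by group
    rw [h.center_comm (h.sq x hx) hy] at e1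
    exact mul_eq_right.1 e1.symm
  exact ⟨κ, h.omega κ hm h2, hxy, h2, hm⟩

theorem val_mem (h : TwoData p P C z) {u : G} (hu : u = 1 ∨ u = z) :
    u ∈ C ⊓ Subgroup.centralizer (C : Set G) := by
  rcases hu with rfl | rfl
  · exact one_mem _
  · exact h.zmem

/-- The element `x⁻¹ x^c` squares into `{1, z}`. -/
theorem sq_val [Finite G] (h : TwoData p P C z) {c x : G} (hc : c ∈ P) (hx : x ∈ C) :
    x⁻¹ * (c * x * c⁻¹) * (x⁻¹ * (c * x * c⁻¹)) = 1 ∨
      x⁻¹ * (c * x * c⁻¹) * (x⁻¹ * (c * x * c⁻¹)) = z := by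
  set x' := c * x * c⁻¹ with hx'
  have hx'm : x' ∈ C := conj_mem_of_normalizer (h.norm hc) hx
  obtain ⟨κ, hκ, hxy, hκ2, hκm⟩ := h.comm_val hx'm (inv_mem hx)
  have h2 : x' * x' = x * x := by
    rw [hx', show c * x * c⁻¹ * (c * x * c⁻¹) = c * (x * x) * c⁻¹ by group,
      h.center_fixed hc _ (h.sq x hx)]
  have : x⁻¹ * x' * (x⁻¹ * x') = κ := by
    calc x⁻¹ * x' * (x⁻¹ * x') = x⁻¹ * (x' * x⁻¹) * x' := by group
      _ = x⁻¹ * (κ * (x⁻¹ * x')) * x' := by rw [hxy]
      _ = x⁻¹ * κ * x⁻¹ * (x' * x') := by group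
      _ = κ * x⁻¹ * x⁻¹ * (x * x) := by rw [h.center_comm hκm (inv_mem hx), h2]
      _ = κ := by group
  rw [this]
  exact hκ

/-- A moved element stays moved after forming `x⁻¹ x^c`. -/
theorem moved_diff [Finite G] (h : TwoData p P C z) {c x : G} (hc : c ∈ P) (hx : x ∈ C)
    (hmv : c * x * c⁻¹ ≠ x) :
    c * (x⁻¹ * (c * x * c⁻¹)) * c⁻¹ ≠ x⁻¹ * (c * x * c⁻¹) := by
  intro hfix
  have hw : x⁻¹ * (c * x * c⁻¹) ∈ C :=
    mul_mem (inv_mem hx) (conj_mem_of_normalizer (h.norm hc) hx)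
  have hu : c * x * c⁻¹ = x * (x⁻¹ * (c * x * c⁻¹)) := by group
  have h1 := eq_one_of_two_group_pow h.two hw h.odd (pow_eq_one_of_translate (h.pow_p hc) hu hfix)
  exact hmv (inv_mul_eq_one.1 h1).symm

/-- If `w` is moved by `c` and `w² ∈ Z(C)`, then `w w^c` is moved by `c`. -/
theorem moved_mul_conj [Finite G] (h : TwoData p P C z) {c w : G} (hc : c ∈ P) (hw : w ∈ C)
    (hmv : c * w * c⁻¹ ≠ w) :
    c * (w * (c * w * c⁻¹)) * c⁻¹ ≠ w * (c * w * c⁻¹) := by
  intro hfix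
  set w' := c * w * c⁻¹ with hw'
  set w'' := c * w' * c⁻¹ with hw''
  have hw'm : w' ∈ C := conj_mem_of_normalizer (h.norm hc) hw
  have e : w' * w'' = w * w' := by
    rw [← hfix]; simp only [hw'', hw']; group
  obtain ⟨κ, hκ, hxy, hκ2, hκm⟩ := h.comm_val hw hw'm
  -- `w'' = w'⁻¹ w w' = (central) · w`
  have e2 : w'' = w'⁻¹ * (κ * (w' * w)) := by rw [← hxy, ← e, inv_mul_cancel_left]
  have e3 : w'' = w * κ := by
    rw [e2, h.center_comm hκm (mul_mem hw'm hw)]; group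
  have hu : c ^ 2 * w * (c ^ 2)⁻¹ = w * κ := by
    rw [← e3, hw'', hw', pow_two]; group
  have hc2 : c ^ 2 ∈ P := pow_mem hc 2
  have h1 := eq_one_of_two_group_pow h.two hκm.1 h.odd
    (pow_eq_one_of_translate (h.pow_p hc2) hu (h.center_fixed hc2 κ hκm))
  rw [h1, mul_one] at hu
  exact hmv (fix_of_sq_fix h.odd (h.pow_p hc) hu)

/-- `x⁻¹ x^c` commutes with everything in `C` fixed by a second subgroup `B'`, when `x` is fixed by
`B` and `P ≤ B ⊔ B'`. -/
theorem diff_comm [Finite G] (h : TwoData p P C z) {B B' : Subgroup G} (hB : B ≤ P) (hB' : B' ≤ P)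
    (hsup : P ≤ B ⊔ B') {c x y : G} (hc : c ∈ P) (hx : x ∈ C)
    (hxB : x ∈ Subgroup.centralizer (B : Set G)) (hy : y ∈ C)
    (hyB : y ∈ Subgroup.centralizer (B' : Set G)) :
    x⁻¹ * (c * x * c⁻¹) * y = y * (x⁻¹ * (c * x * c⁻¹)) := by
  have hn : B' ≤ Subgroup.normalizer (B : Set G) := fun g hg => mem_normalizer_of_commute
    fun b hb => elemAb_comm h.elem (hB hb) (hB' hg)
  have hc' := hsup hc
  rw [← SetLike.mem_coe, Subgroup.coe_mul_of_right_le_normalizer_left B B' hn] at hc'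
  obtain ⟨b, hb, e, he, hbe⟩ := Set.mem_mul.1 hc'
  have hconj : c * x * c⁻¹ = e * x * e⁻¹ := by
    have h1 : b * x = x * b := Subgroup.mem_centralizer_iff.1 hxB b hb
    have h2 : b * e = e * b := elemAb_comm h.elem (hB hb) (hB' he)
    rw [← hbe, h2]
    calc e * b * x * (e * b)⁻¹ = e * (b * x * b⁻¹) * e⁻¹ := by group
      _ = e * x * e⁻¹ := by rw [h1, mul_inv_cancel_right]
  rw [hconj]
  obtain ⟨κ, hκ, hxy, hκ2, hκm⟩ := h.comm_val hx hy
  have hye : e * y * e⁻¹ = y :=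
    mul_inv_eq_iff_eq_mul.2 (Subgroup.mem_centralizer_iff.1 hyB e he)
  have hxy' : e * x * e⁻¹ * y = κ * (y * (e * x * e⁻¹)) := by
    calc e * x * e⁻¹ * y = e * x * e⁻¹ * (e * y * e⁻¹) := by rw [hye]
      _ = e * (x * y) * e⁻¹ := by group
      _ = e * (κ * (y * x)) * e⁻¹ := by rw [hxy]
      _ = (e * κ * e⁻¹) * ((e * y * e⁻¹) * (e * x * e⁻¹)) := by group
      _ = κ * (y * (e * x * e⁻¹)) := by rw [h.center_fixed (hB' he) κ hκm, hye]
  have hyx : x⁻¹ * κ * y = y * x⁻¹ := by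
    calc x⁻¹ * κ * y = x⁻¹ * (κ * (y * x)) * x⁻¹ := by group
      _ = x⁻¹ * (x * y) * x⁻¹ := by rw [hxy]
      _ = y * x⁻¹ := by group
  calc x⁻¹ * (e * x * e⁻¹) * y = x⁻¹ * (e * x * e⁻¹ * y) := mul_assoc _ _ _
    _ = x⁻¹ * (κ * (y * (e * x * e⁻¹))) := by rw [hxy']
    _ = x⁻¹ * κ * y * (e * x * e⁻¹) := by group
    _ = y * (x⁻¹ * (e * x * e⁻¹)) := by rw [hyx, mul_assoc]

end TwoData

/-- `B` is a hyperplane of `P` (with complement generated by `c`) and moves `x`. -/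
structure MovedAt (P C : Subgroup G) (B : Subgroup G) (c x : G) : Prop where
  le : B ≤ P
  hc : c ∈ P
  sup : B ⊔ Subgroup.zpowers c = P
  hx : x ∈ C
  fixB : x ∈ Subgroup.centralizer (B : Set G)
  moved : c * x * c⁻¹ ≠ x

theorem MovedAt.notMem {P C B : Subgroup G} {c x : G} (h : MovedAt P C B c x) : c ∉ B := fun hc =>
  h.moved (mul_inv_eq_iff_eq_mul.2 (Subgroup.mem_centralizer_iff.1 h.fixB c hc))

theorem MovedAt.card [Finite G] {p : ℕ} [hp : Fact p.Prime] {P C B : Subgroup G} {c x : G}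
    (hP : IsElementaryAbelian p P) (h : MovedAt P C B c x) : p * Nat.card B = Nat.card P := by
  rw [← card_sup_zpowers hp.out (hP.2 c h.hc) h.notMem
    (fun b hb => elemAb_comm hP (h.le hb) h.hc), h.sup]

/-- A subgroup of `C` not inside `S` contains an element outside `S` fixed by a hyperplane. -/
theorem exists_hyperplane_element [Finite G] {p : ℕ} [hp : Fact p.Prime] (hp2 : p ≠ 2)
    {P K : Subgroup G} (hP : IsElementaryAbelian p P) (hK : IsPGroup 2 K)
    (hn : P ≤ Subgroup.normalizer (K : Set G)) {S : Subgroup G} (hS : ¬ K ≤ S) :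
    ∃ (B : Subgroup G) (c x : G), B ≤ P ∧ c ∈ P ∧ B ⊔ Subgroup.zpowers c = P ∧ x ∈ K ∧
      x ∈ Subgroup.centralizer (B : Set G) ∧ x ∉ S := by
  haveI := hP.1
  haveI : Fact (Nat.Prime 2) := ⟨Nat.prime_two⟩
  have hPp : IsPGroup p P := fun a => ⟨1, Subtype.ext (by simpa using hP.2 a a.2)⟩
  have hcop : (Nat.card P).Coprime (Nat.card K) := IsPGroup.coprime_card_of_ne p 2 hp2 _ _ hPp hK
  by_contra hne
  refine hS (Cfsg.Agent.H20.le_of_cocyclic_centralizers_le hn hcop fun B hB ⟨c, hc, hsup⟩ x hx => ?_)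
  by_contra hxS
  exact hne ⟨B, c, x, hB, hc, hsup, hx.1, hx.2, hxS⟩

/-- If `K` is not centralized by `P`, some hyperplane fixes an element which is moved. -/
theorem exists_moved [Finite G] {p : ℕ} [hp : Fact p.Prime] (hp2 : p ≠ 2) {P K : Subgroup G}
    (hP : IsElementaryAbelian p P) (hK : IsPGroup 2 K)
    (hn : P ≤ Subgroup.normalizer (K : Set G))
    (hS : ¬ K ≤ Subgroup.centralizer (P : Set G)) :
    ∃ (B : Subgroup G) (c x : G), MovedAt P K B c x := by
  obtain ⟨B, c, x, hB, hc, hsup, hx, hxB, hxS⟩ := exists_hyperplane_element hp2 hP hK hn hS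
  refine ⟨B, c, x, hB, hc, hsup, hx, hxB, fun hfix => hxS ?_⟩
  have hPle : P ≤ Subgroup.centralizer ({x} : Set G) := by
    rw [← hsup]
    refine sup_le (fun b hb => Subgroup.mem_centralizer_singleton_iff.2
      (Subgroup.mem_centralizer_iff.1 hxB b hb)) (Subgroup.zpowers_le.2 ?_)
    exact Subgroup.mem_centralizer_singleton_iff.2 (mul_inv_eq_iff_eq_mul.1 hfix)
  exact Subgroup.mem_centralizer_iff.2 fun g hg =>
    Subgroup.mem_centralizer_singleton_iff.1 (hPle hg)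

/-- A pair of moved elements attached to a hyperplane. -/
theorem TwoData.exists_pair [Finite G] {p : ℕ} {P C : Subgroup G} {z : G} (h : TwoData p P C z)
    {B : Subgroup G} {c x : G} (hm : MovedAt P C B c x) :
    ∃ w w', (w ∈ C ∧ w ∈ Subgroup.centralizer (B : Set G)) ∧
      (w' ∈ C ∧ w' ∈ Subgroup.centralizer (B : Set G)) ∧ (w * w = 1 ∨ w * w = z) ∧
      w' * w' = w * w ∧ w ∉ Subgroup.centralizer (P : Set G) ∧
      w' ∉ Subgroup.centralizer (P : Set G) ∧ w * w' ∉ Subgroup.centralizer (P : Set G) ∧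
      ∀ B' ≤ P, P ≤ B ⊔ B' → ∀ y ∈ C, y ∈ Subgroup.centralizer (B' : Set G) →
        w * y = y * w ∧ w' * y = y * w' := by
  obtain ⟨hB, hc, -, hx, hxB, hmv⟩ := hm
  set w := x⁻¹ * (c * x * c⁻¹) with hw
  have hn := h.norm hc
  have hfixB : ∀ {u : G}, u ∈ Subgroup.centralizer (B : Set G) →
      c * u * c⁻¹ ∈ Subgroup.centralizer (B : Set G) := by
    intro u hu
    refine Subgroup.mem_centralizer_iff.2 fun b hb => ?_
    have e1 : b * c = c * b := elemAb_comm h.elem (hB hb) hc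
    have e2 : Commute b u := Subgroup.mem_centralizer_iff.1 hu b hb
    exact (((show Commute b c from e1).mul_right e2).mul_right (show Commute b c from e1).inv_right).eq
  have hwC : w ∈ C := mul_mem (inv_mem hx) (conj_mem_of_normalizer hn hx)
  have hwB : w ∈ Subgroup.centralizer (B : Set G) :=
    Subgroup.mul_mem _ (Subgroup.inv_mem _ hxB) (hfixB hxB)
  have hwm := h.moved_diff hc hx hmv
  have notCent : ∀ {u : G}, c * u * c⁻¹ ≠ u → u ∉ Subgroup.centralizer (P : Set G) :=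
    fun hu hu' => hu (mul_inv_eq_iff_eq_mul.2 (Subgroup.mem_centralizer_iff.1 hu' c hc))
  have hsq := h.sq_val hc hx
  refine ⟨w, c * w * c⁻¹, ⟨hwC, hwB⟩, ⟨conj_mem_of_normalizer hn hwC, hfixB hwB⟩, hsq, ?_,
    notCent hwm, notCent ?_, notCent (h.moved_mul_conj hc hwC hwm), fun B' hB' hsup y hy hyB => ?_⟩
  · rw [show c * w * c⁻¹ * (c * w * c⁻¹) = c * (w * w) * c⁻¹ by group,
      h.center_fixed hc _ (h.val_mem hsq)]
  · intro hh
    exact hwm (mul_left_cancel (mul_right_cancel hh))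
  · refine ⟨h.diff_comm hB hB' hsup hc hx hxB hy hyB, ?_⟩
    rw [show c * w * c⁻¹ = (c * x * c⁻¹)⁻¹ * (c * (c * x * c⁻¹) * c⁻¹) by rw [hw]; group]
    exact h.diff_comm hB hB' hsup hc (conj_mem_of_normalizer hn hx) (hfixB hxB) hy hyB

/-- Two distinct hyperplanes span. -/
theorem sup_eq_of_ne_hyperplane [Finite G] {p : ℕ} [hp : Fact p.Prime] {P B B' : Subgroup G}
    (hP : IsElementaryAbelian p P) (hB : B ≤ P) (hB' : B' ≤ P) (hc : p * Nat.card B = Nat.card P)
    (hc' : Nat.card B' = Nat.card B) (hne : B' ≠ B) : P ≤ B ⊔ B' := by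
  obtain ⟨g, hg, hgB⟩ : ∃ g ∈ B', g ∉ B := SetLike.not_le_iff_exists.1
    fun hle => hne (Subgroup.eq_of_le_of_card_ge hle hc'.ge)
  have hle : B ⊔ Subgroup.zpowers g ≤ P := sup_le hB (Subgroup.zpowers_le.2 (hB' hg))
  have heq : B ⊔ Subgroup.zpowers g = P := Subgroup.eq_of_le_of_card_ge hle (by
    rw [card_sup_zpowers hp.out (hP.2 g (hB' hg)) hgB (fun b hb => elemAb_comm hP (hB hb) (hB' hg)),
      hc])
  exact heq ▸ sup_le_sup_left (Subgroup.zpowers_le.2 hg) B

/-- The meet of two hyperplanes has index at most `p ^ 2`. -/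
theorem card_le_mul_card_inf [Finite G] {p : ℕ} [hp : Fact p.Prime] {P B B' : Subgroup G}
    (hB : B ≤ P) (hB' : B' ≤ P) (hc' : p * Nat.card B' = Nat.card P) :
    Nat.card B ≤ p * Nat.card ↥(B ⊓ B') := by
  have h1 := Subgroup.card_mul_index (B'.subgroupOf P)
  rw [Nat.card_congr (Subgroup.subgroupOfEquivOfLe hB').toEquiv, ← hc', mul_comm p] at h1
  have h2 : B'.relIndex P = p := Nat.eq_of_mul_eq_mul_left Nat.card_pos h1
  have h3 : B'.relIndex B ≤ B'.relIndex P :=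
    Subgroup.relIndex_le_of_le_right hB (h2 ▸ hp.out.pos.ne')
  have h4 := Subgroup.card_mul_index ((B ⊓ B').subgroupOf B)
  rw [Nat.card_congr (Subgroup.subgroupOfEquivOfLe inf_le_left).toEquiv] at h4
  have h5 : (B ⊓ B').relIndex B = B'.relIndex B := Subgroup.inf_relIndex_left B B'
  calc Nat.card B = Nat.card ↥(B ⊓ B') * (B ⊓ B').relIndex B := h4.symm
    _ ≤ Nat.card ↥(B ⊓ B') * p := Nat.mul_le_mul_left _ (h5.le.trans (h3.trans h2.le))
    _ = p * Nat.card ↥(B ⊓ B') := mul_comm _ _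

end Cfsg.Agent.H43
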