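import Mathlib
import Cfsg.Agent.H43.CoprimeExt
import Cfsg.Agent.H43.CoprimeRestrict
import Cfsg.Agent.H43.DetGalois
import Cfsg.Agent.H43.PPrimeDegree
import Cfsg.Agent.H26.CharFS
import Cfsg.Agent.H39.FullyRamified
import Cfsg.Agent.H45.Gallagher

/-!
# Real characters and the abelianization of a Sylow `2`-subgroup
-/

set_option autoImplicit false
set_option maxHeartbeats 800000

namespace Cfsg.Agent.H43

open scoped ComplexConjugate
open Module

/-- Conjugate the function and a real irreducible character: the multiplicity is unchanged. -/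
theorem mult_conj {G : Type*} [Group G] [Fintype G] {φ : G → ℂ} (hφ : Cfsg.IsCharacter G φ)
    (ψ : Cfsg.IrrCharacter G) {φ' : G → ℂ} (hφ' : ∀ g, φ' g = conj (φ g))
    {ψ' : Cfsg.IrrCharacter G} (hψ' : ∀ g, ψ'.1 g = conj (ψ.1 g)) :
    mult φ' ψ' = mult φ ψ := by
  refine mult_eq_of_classInner ?_
  have h := congrArg (starRingEnd ℂ) (classInner_eq_mult hφ ψ)
  rw [map_natCast] at h
  rw [← h, Cfsg.classInner, Cfsg.classInner]
  simp only [map_mul, map_inv₀, map_natCast, map_sum, hφ', hψ', Complex.conj_conj]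

/-- An involution leaving a function invariant: only the fixed points matter modulo `2`. -/
theorem odd_sum_fixed_of_odd_sum {α : Type*} [Fintype α] (c : α → α) (hc : ∀ a, c (c a) = a)
    [DecidablePred fun a : α => c a = a] (w : α → ℕ) (hw : ∀ a, w (c a) = w a)
    (h : Odd (∑ a, w a)) : Odd (∑ a with c a = a, w a) := by
  classical
  rw [← ZMod.natCast_eq_one_iff_odd] at h ⊢
  rw [Nat.cast_sum] at h ⊢
  rw [← h, ← Finset.sum_filter_add_sum_filter_not Finset.univ (fun a => c a = a)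
    (fun a => (w a : ZMod 2))]
  rw [Finset.sum_involution (s := Finset.univ.filter fun a => ¬ c a = a) (fun a _ => c a)
    (fun a _ => by rw [hw]; exact CharTwo.add_self_eq_zero _)
    (fun a ha _ => (Finset.mem_filter.mp ha).2)
    (fun a ha => Finset.mem_filter.mpr ⟨Finset.mem_univ _, fun h2 => (Finset.mem_filter.mp ha).2
      (by rw [hc] at h2; exact h2.symm)⟩)
    (fun a _ => hc a), add_zero]

/-- The key step, for `G = N P`. -/
theorem false_of_elementary_step {G : Type*} [Group G] [Fintype G] (N : Subgroup G) [hN : N.Normal]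
    (P : Sylow 2 G) (hNP : N ⊔ (P : Subgroup G) = ⊤) (hodd : Odd (Nat.card (Abelianization N)))
    (lam : ↥(P : Subgroup G) →* ℂˣ)
    (hsq : ∀ q : ↥(P : Subgroup G), (q : G) ∈ N → (lam q) ^ 2 = 1)
    (x q : ↥(P : Subgroup G)) (hq : (q : G) ∈ N) (hlq : lam q ≠ 1)
    (hxq : (x ^ 2)⁻¹ * q ∈ commutator ↥(P : Subgroup G)) : False := by
  classical
  set QP := N.subgroupOf (P : Subgroup G) with hQP
  have : QP.Normal := hN.subgroupOf _
  let _ : Fintype QP := Fintype.ofFinite _
  let _ : Fintype N := Fintype.ofFinite _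
  let _ : Fintype ↥(P : Subgroup G) := Fintype.ofFinite _
  set QN := (P : Subgroup G).subgroupOf N with hQN
  let _ : Fintype QN := Fintype.ofFinite _
  let e : QP ≃* QN :=
    { toFun := fun a => ⟨⟨((a : ↥(P : Subgroup G)) : G), a.2⟩, (a : ↥(P : Subgroup G)).2⟩
      invFun := fun b => ⟨⟨((b : N) : G), b.2⟩, (b : N).2⟩
      left_inv := fun _ => rfl
      right_inv := fun _ => rfl
      map_mul' := fun _ _ => rfl }
  set μ : Cfsg.IrrCharacter QP := irrTwist (H26.oneIrr QP) (lam.comp QP.subtype) with hμ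
  have hμv : ∀ a : QP, μ.1 a = (lam a : ℂ) := fun a => by
    rw [hμ, irrTwist_apply, H26.oneIrr_val, one_mul]; rfl
  have hpm : ∀ a : QP, μ.1 a = 1 ∨ μ.1 a = -1 := fun a => by
    rw [hμv]
    have h := congrArg Units.val (hsq a a.2)
    rw [Units.val_pow_eq_pow_val, Units.val_one] at h
    exact sq_eq_one_iff.mp h
  have hμreal : ∀ a : QP, conj (μ.1 a) = μ.1 a := fun a => by
    rcases hpm a with h | h <;> simp [h]
  have hμ1 : Cfsg.charDegree μ.1 = 1 := by
    have h := irr_charDegree_spec μ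
    rw [hμv, OneMemClass.coe_one, map_one, Units.val_one] at h
    exact_mod_cast h.symm
  -- the index of `Q` in `N` is odd
  have hcard : Nat.card QP = Nat.card QN := Nat.card_congr e.toEquiv
  have hidx : ¬ 2 ∣ QN.index := by
    intro hd
    have h1 : N.index = QP.index := by
      rw [hQP, ← Subgroup.relIndex, ← Subgroup.relIndex_sup_right, sup_comm, hNP,
        Subgroup.relIndex_top_right]
    have h2 : Nat.card N * N.index = Nat.card ↥(P : Subgroup G) * (P : Subgroup G).index := by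
      rw [Subgroup.card_mul_index, Subgroup.card_mul_index]
    rw [h1, ← Subgroup.card_mul_index QN, ← Subgroup.card_mul_index QP, ← hcard] at h2
    have h3 : QN.index = (P : Subgroup G).index := by
      refine Nat.eq_of_mul_eq_mul_left (Nat.mul_pos (Nat.card_pos (α := QP))
        (Nat.pos_of_ne_zero QP.index_ne_zero_of_finite)) ?_
      rw [mul_right_comm, h2]
    exact P.not_dvd_index (h3 ▸ hd)
  -- weights of the characters of `N`
  let w : Cfsg.IrrCharacter N → ℕ := fun θ =>
    mult (fun a : QP => θ.1 ((e a : QN) : N)) μ * Cfsg.charDegree θ.1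
  have hresc : ∀ θ : Cfsg.IrrCharacter N, Cfsg.IsCharacter QP (fun a : QP => θ.1 ((e a : QN) : N)) :=
    fun θ => H26.isCharacter_comp (H26.irr_isCharacter θ) (QN.subtype.comp e.toMonoidHom)
  have hwodd : Odd (∑ θ, w θ) := by
    have h := sum_mult_degree_above QN (irrCongr e.symm μ)
    rw [charDegree_irrCongr, hμ1, mul_one] at h
    have he : irrCongr e (irrCongr e.symm μ) = μ :=
      Subtype.ext (funext fun a => by rw [irrCongr_apply, irrCongr_apply, e.symm_apply_apply])
    rw [Finset.sum_congr rfl fun θ _ => show w θ =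
      mult (fun b : QN => θ.1 (b : N)) (irrCongr e.symm μ) * Cfsg.charDegree θ.1 by
        simp only [w]
        conv_lhs => rw [← he]
        rw [H45.mult_congr e (fun b : QN => θ.1 (b : N))], h]
    exact Nat.not_even_iff_odd.mp fun hev => hidx hev.two_dvd
  have hwc : ∀ θ, w (H26.conjIrr θ) = w θ := by
    intro θ
    simp only [w]
    congr 1
    exact mult_conj (hresc θ) μ (fun a => H26.conjIrr_val θ _) (fun a => (hμreal a).symm)
  have hfix := odd_sum_fixed_of_odd_sum H26.conjIrr H26.conjIrr_conjIrr w hwc hwodd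
  -- the action of `P`
  let φ : ↥(P : Subgroup G) →* MulAut N :=
    (MulAut.conjNormal : G →* MulAut N).comp (P : Subgroup G).subtype
  let f : Cfsg.IrrCharacter N → ℕ := fun θ => if H26.conjIrr θ = θ then w θ else 0
  let := irrAction φ
  have hf : ∀ (s : ↥(P : Subgroup G)) (θ : Cfsg.IrrCharacter N), f (s • θ) = f θ := by
    intro s θ
    show f (irrCongr (φ s⁻¹) θ) = f θ
    have h1 : H26.conjIrr (irrCongr (φ s⁻¹) θ) = irrCongr (φ s⁻¹) θ ↔ H26.conjIrr θ = θ := by
      rw [H26.conjIrr_eq_self_iff, H26.conjIrr_eq_self_iff]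
      constructor
      · intro h n
        obtain ⟨n', rfl⟩ := (φ s⁻¹).surjective n
        have := h n'
        rwa [irrCongr_apply] at this
      · intro h n
        rw [irrCongr_apply]
        exact h _
    have h2 : w (irrCongr (φ s⁻¹) θ) = w θ := by
      simp only [w, charDegree_irrCongr]
      congr 1
      have hμinv : irrCongr (MulAut.conjNormal s⁻¹ : MulAut QP) μ = μ := by
        refine Subtype.ext (funext fun a => ?_)
        rw [irrCongr_apply, hμv, hμv, MulAut.conjNormal_apply]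
        simp only [map_mul, map_inv, inv_inv, inv_mul_cancel_comm]
      conv_lhs => rw [← hμinv]
      rw [show (fun a : QP => (irrCongr (φ s⁻¹) θ).1 ((e a : QN) : N)) =
        fun a : QP => (fun b : QP => θ.1 ((e b : QN) : N)) ((MulAut.conjNormal s⁻¹ : MulAut QP) a) from
          funext fun a => by
            rw [irrCongr_apply]
            congr 1]
      exact H45.mult_congr (MulAut.conjNormal s⁻¹ : MulAut QP) (fun b : QP => θ.1 ((e b : QN) : N)) μ
    simp only [f, h1, h2]
  obtain ⟨θ, hθreal, hθinv, hθw⟩ : ∃ θ : Cfsg.IrrCharacter N, H26.conjIrr θ = θ ∧ InvFun φ θ.1 ∧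
      Odd (w θ) := by
    by_contra hno
    push Not at hno
    have h := IntCong.sum_fixedPoints (p := 2) P.isPGroup' (fun θ => (f θ : ℂ))
      (fun θ => isIntegral_natCast _) (fun s θ => by rw [hf])
    rw [← Nat.cast_sum, ← Nat.cast_sum] at h
    have hs : 2 ∣ ∑ θ with θ ∈ MulAction.fixedPoints ↥(P : Subgroup G) (Cfsg.IrrCharacter N), f θ := by
      refine Finset.dvd_sum fun θ hθ => ?_
      simp only [f]
      split_ifs with hr
      · exact (Nat.not_odd_iff_even.mp (hno θ hr ((mem_fixedPoints_irrAction φ θ).mp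
          (Finset.mem_filter.mp hθ).2))).two_dvd
      · exact dvd_zero 2
    have h' : 2 ∣ ∑ θ, f θ := IntCong.nat_dvd two_ne_zero (h.trans (by
      simpa using IntCong.natCast_mul_zero (c := 1) hs isIntegral_one))
    simp only [f, ← Finset.sum_filter] at h'
    exact (Nat.not_even_iff_odd.mpr hfix) (even_iff_two_dvd.mpr h')
  obtain ⟨hmodd, hdodd⟩ := Nat.odd_mul.mp hθw
  -- extension to `G`
  have hinv : ∀ g : G, irrConj N g θ = θ := by
    refine irrConj_eq_self_of_sup_eq_top N θ (P : Subgroup G) hNP fun s hs => ?_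
    refine Subtype.ext (funext fun n => ?_)
    rw [irrConj_apply]
    exact hθinv ⟨s, hs⟩ n
  have hdet : Odd (Cfsg.detOrder θ.1) := by
    obtain ⟨g, -, hg⟩ := exists_detHom (H26.irr_isCharacter θ)
    rw [hg]
    refine hodd.of_dvd_nat (orderOf_dvd_of_pow_eq_one (MonoidHom.ext fun n => ?_))
    rw [MonoidHom.pow_apply, ← Abelianization.lift_apply_of g n, ← map_pow, pow_card_eq_one',
      map_one, MonoidHom.one_apply]
  have hNidx : ∃ k, N.index = 2 ^ k := by
    obtain ⟨k, hk⟩ := P.isPGroup'.exists_card_eq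
    have hd : N.index ∣ Nat.card ↥(P : Subgroup G) := by
      rw [← Subgroup.relIndex_top_right, ← hNP, sup_comm, Subgroup.relIndex_sup_right]
      exact Subgroup.index_dvd_card _
    obtain ⟨i, -, hi⟩ := (Nat.dvd_prime_pow Nat.prime_two).mp (hk ▸ hd)
    exact ⟨i, hi⟩
  obtain ⟨k, hk⟩ := hNidx
  have hcop : ∀ m : ℕ, Odd m → Nat.Coprime N.index m := fun m hm => by
    rw [hk]; exact Nat.Coprime.pow_left k (Nat.coprime_two_left.mpr hm)
  obtain ⟨χ, hχ, hχd⟩ := exists_coprime_ext θ hinv (hcop _ (hdet.mul hdodd))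
  have hχreal : H26.conjIrr χ = χ := by
    refine coprime_ext_unique θ χ _ (hcop _ hdodd) hχ (fun n => ?_) (hcop _ (hχd ▸ hdet)) ?_
    · rw [H26.conjIrr_val, hχ, Complex.conj_eq_iff_im.mpr ((H26.conjIrr_eq_self_iff θ).mp hθreal n)]
    · rw [show (H26.conjIrr χ).1 = fun g => (Complex.conjAe.toRingEquiv : ℂ ≃+* ℂ) (χ.1 g) from
        funext fun g => H26.conjIrr_val χ g,
        detOrder_ringAut (H26.irr_isCharacter χ), hχd]
      exact hcop _ hdet
  -- restriction to `P`
  set φP : ↥(P : Subgroup G) → ℂ := fun g => χ.1 g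
  have hφP : Cfsg.IsCharacter _ φP := H26.isCharacter_comp (H26.irr_isCharacter χ) (P : Subgroup G).subtype
  have hm : mult (fun a : QP => φP a) μ = mult (fun a : QP => θ.1 ((e a : QN) : N)) μ := by
    congr 1
    funext a
    exact hχ ((e a : QN) : N)
  have hsum : Odd (∑ ψ : Cfsg.IrrCharacter ↥(P : Subgroup G),
      mult φP ψ * mult (fun a : QP => ψ.1 a) μ) := by
    have hc : mult (fun a : QP => φP a) μ = ∑ ψ : Cfsg.IrrCharacter ↥(P : Subgroup G),
        mult φP ψ * mult (fun a : QP => ψ.1 a) μ := mult_comp QP.subtype hφP μ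
    rw [← hc, hm]; exact hmodd
  have hfix' := odd_sum_fixed_of_odd_sum H26.conjIrr H26.conjIrr_conjIrr
    (fun ψ : Cfsg.IrrCharacter ↥(P : Subgroup G) => mult φP ψ * mult (fun a : QP => ψ.1 a) μ)
    (fun ψ => by
      congr 1
      · exact mult_conj hφP ψ (fun g => (Complex.conj_eq_iff_im.mpr ((H26.conjIrr_eq_self_iff χ).mp hχreal g)).symm)
          (fun g => H26.conjIrr_val ψ g)
      · exact mult_conj (H26.isCharacter_comp (H26.irr_isCharacter ψ) QP.subtype) μ
          (fun a => H26.conjIrr_val ψ _) (fun a => (hμreal a).symm)) hsum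
  obtain ⟨ψ, hψ, hψodd⟩ : ∃ ψ : Cfsg.IrrCharacter ↥(P : Subgroup G), H26.conjIrr ψ = ψ ∧
      Odd (mult (fun a : QP => ψ.1 a) μ) := by
    by_contra hno
    push Not at hno
    refine (Nat.not_even_iff_odd.mpr hfix') (even_iff_two_dvd.mpr (Finset.dvd_sum fun ψ hψ => ?_))
    exact ((Nat.not_odd_iff_even.mp (hno ψ (Finset.mem_filter.mp hψ).2)).two_dvd).mul_left _
  -- `ψ` is linear
  obtain ⟨e', -, he', hres⟩ := H39.restrict_eq_smul_of_invariant ψ.2 μ.2 (fun g a => by
      rw [hμv, hμv]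
      show ((lam (g * (a : ↥(P : Subgroup G)) * g⁻¹) : ℂˣ) : ℂ) = _
      rw [map_mul, map_mul, map_inv, mul_inv_cancel_comm])
    (by
      rw [classInner_eq_mult (φ := fun a : QP => ψ.1 a)
        (H26.isCharacter_comp (H26.irr_isCharacter ψ) QP.subtype)]
      exact_mod_cast hψodd.pos.ne')
  have he'' : e' = mult (fun a : QP => ψ.1 a) μ := by
    rw [classInner_eq_mult (φ := fun a : QP => ψ.1 a)
      (H26.isCharacter_comp (H26.irr_isCharacter ψ) QP.subtype), Nat.cast_inj] at he'
    exact he'.symm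
  have hψ1 : Cfsg.charDegree ψ.1 = e' := by
    have h := congrFun hres 1
    rw [Pi.smul_apply, smul_eq_mul, irr_charDegree_spec, hμ1, Nat.cast_one, mul_one,
      OneMemClass.coe_one, irr_charDegree_spec, Nat.cast_inj] at h
    exact h
  have he1 : e' = 1 := by
    obtain ⟨k, hk⟩ := P.isPGroup'.exists_card_eq
    obtain ⟨i, -, hi⟩ := (Nat.dvd_prime_pow Nat.prime_two).mp (hk ▸ hψ1 ▸ irr_charDegree_dvd ψ)
    rcases Nat.eq_zero_or_pos i with rfl | h0
    · rw [hi, pow_zero]
    · exact absurd (hi ▸ dvd_pow_self 2 h0.ne') (he'' ▸ (Nat.odd_iff.mp hψodd |> fun h => by omega))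
  obtain ⟨g, hg⟩ := H26.exists_hom_of_isCharacter_one (H26.irr_isCharacter ψ)
    (by rw [irr_charDegree_spec, hψ1, he1, Nat.cast_one])
  have hgsq : (g x : ℂ) ^ 2 = 1 := by
    have h := hom_mul_conj g x
    have hr := Complex.conj_eq_iff_im.mpr ((H26.conjIrr_eq_self_iff ψ).mp hψ x)
    rw [← hg] at hr
    rwa [hr, ← sq] at h
  have h1 : g ((x ^ 2)⁻¹ * q) = 1 := Abelianization.commutator_subset_ker g hxq
  rw [map_mul, map_inv, map_pow, show g x ^ 2 = 1 from Units.ext (by simpa using hgsq), inv_one,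
    one_mul] at h1
  have h2 := congrFun hres (⟨q, hq⟩ : QP)
  rw [Pi.smul_apply, smul_eq_mul, he1, Nat.cast_one, one_mul, hμv] at h2
  simp only [← hg, h1, Units.val_one] at h2
  exact hlq (Units.val_eq_one.mp h2.symm)

/-- The theorem. -/
theorem sq_mem_commutator {G : Type*} [Group G] [Finite G] (N : Subgroup G) [hN : N.Normal]
    (P : Sylow 2 G) (hodd : Odd (Nat.card (Abelianization N)))
    (hP : ∀ x ∈ (P : Subgroup G), x ^ 2 ∈ ((P : Subgroup G) ⊓ N) ⊔ ⁅(P : Subgroup G), (P : Subgroup G)⁆)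
    (hQ : ∀ x ∈ (P : Subgroup G) ⊓ N, x ^ 2 ∈ ⁅(P : Subgroup G) ⊓ N, (P : Subgroup G) ⊓ N⁆) :
    ∀ x ∈ (P : Subgroup G), x ^ 2 ∈ ⁅(P : Subgroup G), (P : Subgroup G)⁆ := by
  classical
  intro x hx
  by_contra hne
  set H := (P : Subgroup G) with hH
  have hmap : (commutator ↥H).map H.subtype = ⁅H, H⁆ := Subgroup.map_subtype_commutator H
  have hx' : (⟨x, hx⟩ : ↥H) ^ 2 ∉ commutator ↥H := fun h =>
    hne (hmap ▸ ⟨_, h, rfl⟩)
  obtain ⟨lam0, hlam0⟩ := CommGroup.exists_apply_ne_one_of_hasEnoughRootsOfUnity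
    (Abelianization ↥H) ℂ (a := Abelianization.of ((⟨x, hx⟩ : ↥H) ^ 2))
    (fun h => hx' ((QuotientGroup.eq_one_iff _).mp h))
  set lam : ↥H →* ℂˣ := lam0.comp Abelianization.of
  have hker : commutator ↥H ≤ lam.ker := Abelianization.commutator_subset_ker lam
  have hsq : ∀ q : ↥H, (q : G) ∈ N → (lam q) ^ 2 = 1 := by
    intro q hq
    rw [← map_pow]
    refine hker ?_
    have h := hQ q ⟨q.2, hq⟩
    have h2 : ⁅H ⊓ N, H ⊓ N⁆ ≤ ⁅H, H⁆ := Subgroup.commutator_mono inf_le_left inf_le_left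
    obtain ⟨c, hc, hcq⟩ := hmap.symm ▸ h2 h
    exact (Subtype.ext hcq : c = q ^ 2) ▸ hc
  obtain ⟨q, hq, hqx⟩ : ∃ q : ↥H, (q : G) ∈ N ∧
      ((⟨x, hx⟩ : ↥H) ^ 2)⁻¹ * q ∈ commutator ↥H := by
    have : (N.subgroupOf H).Normal := hN.subgroupOf H
    have h := hP x hx
    have hle : H ⊓ N ⊔ ⁅H, H⁆ ≤ (N.subgroupOf H ⊔ commutator ↥H).map H.subtype := by
      rw [Subgroup.map_sup, hmap, Subgroup.subgroupOf_map_subtype, inf_comm]
    obtain ⟨a, ha, hax⟩ := hle h
    rw [show a = (⟨x, hx⟩ : ↥H) ^ 2 from Subtype.ext hax, Subgroup.mul_normal] at ha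
    obtain ⟨q, hq, c, hc, hqc⟩ := ha
    refine ⟨q, hq, ?_⟩
    rw [← hqc]
    simp only [mul_inv_rev, inv_mul_cancel_right]
    exact (commutator ↥H).inv_mem hc
  have hlq : lam q ≠ 1 := by
    intro h1
    apply hlam0
    have := hker hqx
    rw [MonoidHom.mem_ker, map_mul, map_inv, h1, mul_one, inv_eq_one] at this
    exact this
  -- reduce to `N P`
  set K := N ⊔ H with hK
  let _ : Fintype K := Fintype.ofFinite _
  have hHK : H ≤ K := le_sup_right
  let PK : Sylow 2 K := P.subtype hHK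
  have hPK : (PK : Subgroup K) = H.subgroupOf K := rfl
  let i : ↥(PK : Subgroup K) ≃* ↥H := Subgroup.subgroupOfEquivOfLe hHK
  have : (N.subgroupOf K).Normal := hN.subgroupOf K
  have hNK : N.subgroupOf K ⊔ (PK : Subgroup K) = ⊤ := by
    rw [hPK, ← Subgroup.subgroupOf_sup le_sup_left hHK, Subgroup.subgroupOf_self]
  have hodd' : Odd (Nat.card (Abelianization (N.subgroupOf K))) := by
    rw [Nat.card_congr (MulEquiv.abelianizationCongr
      (Subgroup.subgroupOfEquivOfLe (le_sup_left : N ≤ K))).toEquiv]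
    exact hodd
  refine false_of_elementary_step (N.subgroupOf K) PK hNK hodd' (lam.comp i.toMonoidHom)
    (fun r hr => hsq (i r) hr) (i.symm ⟨x, hx⟩) (i.symm q) (by
      rw [Subgroup.mem_subgroupOf]; exact hq) ?_ ?_
  · rw [MonoidHom.comp_apply, MulEquiv.coe_toMonoidHom, i.apply_symm_apply]; exact hlq
  · rw [← map_pow, ← map_inv, ← map_mul]
    have h := Subgroup.mem_map_of_mem i.symm.toMonoidHom hqx
    rw [commutator_def, Subgroup.map_commutator] at h
    exact Subgroup.commutator_mono le_top le_top h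

end Cfsg.Agent.H43
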