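import Mathlib
import Cfsg.Prelude.Def_CaseTheorems
import Cfsg.Prelude.Def_Local
import Cfsg.Prelude.Def_LocalEven
import Cfsg.Agent.H43.ClassTwoAction
import Cfsg.Agent.H24.Critical
import Cfsg.Agent.H72.CharP

/-!
Klinger–Mason: in a group of local characteristic `p` and characteristic 2 type, 2-local subgroups
have `p`-rank at most 2.
-/

set_option autoImplicit false

namespace Cfsg.Agent.H43

open Cfsg

variable {G : Type*} [Group G] [Finite G] {p : ℕ} [hp : Fact p.Prime]

/-- Every local subgroup has its characteristic property. -/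
theorem isCharP_centralizer (hGp : IsOfLocalCharacteristic p G) {K : Subgroup G}
    (hK : IsPGroup p K) (hne : K ≠ ⊥) : H72.IsCharP p (Subgroup.centralizer (K : Set G)) :=
  (H72.isCharP_iff.2 (hGp.2 K hK hne)).of_normal (Subgroup.centralizer_le_normalizer _)
    (H20.le_normalizer_centralizer le_rfl)

theorem elemAb_isPGroup {q : ℕ} {A : Subgroup G} (hA : IsElementaryAbelian q A) : IsPGroup q A :=
  fun a => ⟨1, Subtype.ext (by simpa using hA.2 a a.2)⟩

theorem eq_one_of_two_of_p (hp2 : p ≠ 2) {R : Subgroup G} (hR : IsPGroup p R) {a : G} (ha : a ∈ R)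
    (ha2 : a * a = 1) : a = 1 :=
  H72.eq_one_of_coprime_of_isPGroup hR ha
    (Nat.Coprime.coprime_dvd_left (orderOf_dvd_of_pow_eq_one (by rwa [pow_two]))
      ((Nat.coprime_primes Nat.prime_two hp.out).2 (Ne.symm hp2)))

/-- An elementary abelian 2-group acting faithfully on an odd `p`-group inverts an element of order
`p` centralized by a subgroup of index two. -/
theorem exists_inverted (hp2 : p ≠ 2) {A R : Subgroup G} (hA : IsElementaryAbelian 2 A)
    (hR : IsPGroup p R) (hn : A ≤ Subgroup.normalizer (R : Set G))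
    (hne : ¬ A ≤ Subgroup.centralizer (R : Set G)) :
    ∃ a ∈ A, ∃ y ∈ R, y ^ p = 1 ∧ y ≠ 1 ∧ a * y * a⁻¹ = y⁻¹ ∧
      ∀ b ∈ A, b * y = y * b ∨ (a * b) * y = y * (a * b) := by
  haveI := hA.1
  haveI : Fact (Nat.Prime 2) := ⟨Nat.prime_two⟩
  have hcop : (Nat.card A).Coprime (Nat.card R) :=
    IsPGroup.coprime_card_of_ne 2 p (Ne.symm hp2) _ _ (elemAb_isPGroup hA) hR
  have hex : ∃ (B : Subgroup G) (a x : G), B ≤ A ∧ a ∈ A ∧ B ⊔ Subgroup.zpowers a = A ∧ x ∈ R ∧
      x ∈ Subgroup.centralizer (B : Set G) ∧ x ∉ Subgroup.centralizer (A : Set G) := by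
    by_contra hnot
    refine hne ?_
    have : R ≤ Subgroup.centralizer (A : Set G) :=
      H20.le_of_cocyclic_centralizers_le hn hcop fun B hB ⟨a, ha, hsup⟩ x hx => by
        by_contra hxA
        exact hnot ⟨B, a, x, hB, ha, hsup, hx.1, hx.2, hxA⟩
    exact Subgroup.le_centralizer_iff.1 this
  obtain ⟨B, a, x, hB, ha, hsup, hxR, hxB, hxA⟩ := hex
  have haa : a * a = 1 := by rw [← pow_two]; exact hA.2 a ha
  have hainv : a⁻¹ = a := inv_eq_of_mul_eq_one_right haa
  set u := x⁻¹ * (a * x * a⁻¹) with hu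
  have huR : u ∈ R := mul_mem (inv_mem hxR) (conj_mem_of_normalizer (hn ha) hxR)
  have huB : ∀ b ∈ B, b * u = u * b := by
    intro b hb
    have e1 : Commute b a := elemAb_comm hA (hB hb) ha
    have e2 : Commute b x := Subgroup.mem_centralizer_iff.1 hxB b hb
    exact (e2.inv_right.mul_right ((e1.mul_right e2).mul_right e1.inv_right)).eq
  have hinvu : a * u * a⁻¹ = u⁻¹ := by
    rw [hu, hainv]
    calc a * (x⁻¹ * (a * x * a)) * a = a * x⁻¹ * a * x * (a * a) := by group
      _ = a⁻¹⁻¹ * x⁻¹ * a⁻¹⁻¹ * x := by rw [haa, mul_one, inv_inv]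
      _ = (x⁻¹ * (a⁻¹ * x * a⁻¹))⁻¹ := by group
      _ = (x⁻¹ * (a * x * a))⁻¹ := by rw [hainv]
  have hu1 : u ≠ 1 := by
    intro h1
    rw [hu, inv_mul_eq_one] at h1
    refine hxA (Subgroup.mem_centralizer_iff.2 fun g hg => ?_)
    have hle : A ≤ Subgroup.centralizer ({x} : Set G) := by
      rw [← hsup]
      exact sup_le (fun b hb => Subgroup.mem_centralizer_singleton_iff.2
        (Subgroup.mem_centralizer_iff.1 hxB b hb))
        (Subgroup.zpowers_le.2 (Subgroup.mem_centralizer_singleton_iff.2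
          (mul_inv_eq_iff_eq_mul.1 h1.symm)))
    exact Subgroup.mem_centralizer_singleton_iff.1 (hle hg)
  obtain ⟨k, hk⟩ := IsPGroup.iff_orderOf.1 hR ⟨u, huR⟩
  rw [Subgroup.orderOf_mk] at hk
  obtain ⟨j, rfl⟩ : ∃ j, k = j + 1 := Nat.exists_eq_succ_of_ne_zero fun h0 =>
    hu1 (orderOf_eq_one_iff.1 (by rw [hk, h0, pow_zero]))
  have hy1 : (u ^ p ^ j) ≠ 1 := fun h => by
    have := orderOf_dvd_of_pow_eq_one h
    rw [hk, Nat.pow_dvd_pow_iff_le_right hp.out.one_lt] at this
    omega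
  refine ⟨a, ha, u ^ p ^ j, pow_mem huR _, ?_, hy1, ?_, fun b hb => ?_⟩
  · rw [← pow_mul, ← pow_succ, ← hk, pow_orderOf_eq_one]
  · rw [← MulAut.conj_apply, map_pow, MulAut.conj_apply, hinvu, inv_pow]
  · obtain ⟨b₀, hb₀, i, rfl⟩ := mem_sup_zpowers
      (mem_normalizer_of_commute fun b' hb' => elemAb_comm hA (hB hb') ha) (hsup.ge hb)
    have e0 : Commute b₀ (u ^ p ^ j) := Commute.pow_right (huB b₀ hb₀) _
    have hzz : ∀ i : ℤ, a ^ i = 1 ∨ a ^ i = a := by
      intro i
      rcases Int.even_or_odd i with ⟨m, rfl⟩ | ⟨m, rfl⟩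
      · left; rw [← two_mul, zpow_mul, zpow_two, haa, one_zpow]
      · right; rw [zpow_add, zpow_mul, zpow_two, haa, one_zpow, one_mul, zpow_one]
    rcases hzz i with h | h <;> rw [h]
    · left; rw [mul_one]; exact e0
    · right
      have e : a * (b₀ * a) = b₀ := by
        rw [← mul_assoc, ← elemAb_comm hA (hB hb₀) ha, mul_assoc, haa, mul_one]
      rw [e]
      exact e0

/-- The extension step: a commuting pair `(K, A)` yields `(K ⊔ ⟨y⟩, A₀)`. -/
theorem exists_step (hp2 : p ≠ 2) (hGp : IsOfLocalCharacteristic p G) {K A : Subgroup G}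
    (hK : IsElementaryAbelian p K) (hK1 : K ≠ ⊥) (hA : IsElementaryAbelian 2 A) (hA1 : A ≠ ⊥)
    (hAK : A ≤ Subgroup.centralizer (K : Set G)) :
    ∃ y a : G, y ∈ pCoreOf p (Subgroup.centralizer (K : Set G)) ∧ y ≠ 1 ∧ y ^ p = 1 ∧ a ∈ A ∧
      a * y * a⁻¹ = y⁻¹ ∧ IsElementaryAbelian p (K ⊔ Subgroup.zpowers y) ∧
      Nat.card ↥(K ⊔ Subgroup.zpowers y) = p * Nat.card K ∧
      ∃ A₀ : Subgroup G, A₀ ≤ A ∧ IsElementaryAbelian 2 A₀ ∧ Nat.card A = 2 * Nat.card A₀ ∧
        A₀ ≤ Subgroup.centralizer ((K ⊔ Subgroup.zpowers y : Subgroup G) : Set G) := by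
  set L := Subgroup.centralizer (K : Set G) with hL
  have hchar : H72.IsCharP p L := isCharP_centralizer hGp (elemAb_isPGroup hK) hK1
  set R := pCoreOf p L with hR
  have hRp : IsPGroup p R := H72.pCoreOf_isPGroup p L
  have hn : A ≤ Subgroup.normalizer (R : Set G) := hAK.trans (H72.le_normalizer_pCoreOf p L)
  have hne : ¬ A ≤ Subgroup.centralizer (R : Set G) := by
    intro hle
    refine hA1 (eq_bot_iff.2 fun a ha => ?_)
    exact Subgroup.mem_bot.2 (eq_one_of_two_of_p hp2 hRp (hchar a (hAK ha) (hle ha))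
      (by rw [← pow_two]; exact hA.2 a ha))
  obtain ⟨a, ha, y, hyR, hyp, hy1, hinv, hdec⟩ := exists_inverted hp2 hA hRp hn hne
  have hyL : y ∈ L := H72.pCoreOf_le p L hyR
  have hcommK : ∀ k ∈ K, k * y = y * k := fun k hk => Subgroup.mem_centralizer_iff.1 hyL k hk
  have hay : ¬ a * y = y * a := by
    intro h
    rw [h, mul_inv_cancel_right, eq_inv_iff_mul_eq_one] at hinv
    exact hy1 (eq_one_of_two_of_p hp2 hRp hyR hinv)
  have hyK : y ∉ K := fun h => hay ((Subgroup.mem_centralizer_iff.1 (hAK ha) y h).symm)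
  refine ⟨y, a, hyR, hy1, hyp, ha, hinv, elemAb_sup_zpowers hK hyp hcommK,
    card_sup_zpowers hp.out hyp hyK hcommK, A ⊓ Subgroup.centralizer ({y} : Set G), inf_le_left,
    elemAb_of_le hA inf_le_left, ?_, ?_⟩
  · set A₀ := A ⊓ Subgroup.centralizer ({y} : Set G) with hA₀
    have haA₀ : a ∉ A₀ := fun h => hay (Subgroup.mem_centralizer_singleton_iff.1 h.2)
    have heq : A₀ ⊔ Subgroup.zpowers a = A := by
      refine le_antisymm (sup_le inf_le_left (Subgroup.zpowers_le.2 ha)) fun b hb => ?_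
      rcases hdec b hb with h | h
      · exact Subgroup.mem_sup_left ⟨hb, Subgroup.mem_centralizer_singleton_iff.2 h⟩
      · have e : b = a⁻¹ * (a * b) := by group
        rw [e]
        exact Subgroup.mul_mem _ (Subgroup.mem_sup_right (inv_mem (Subgroup.mem_zpowers a)))
          (Subgroup.mem_sup_left ⟨mul_mem ha hb, Subgroup.mem_centralizer_singleton_iff.2 h⟩)
    rw [← card_sup_zpowers Nat.prime_two (hA.2 a ha) haA₀
      (fun b hb => elemAb_comm hA hb.1 ha), heq]
  · rw [Subgroup.le_centralizer_iff]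
    refine sup_le ?_ (Subgroup.zpowers_le.2 (Subgroup.mem_centralizer_iff.2 fun b hb => ?_))
    · exact (Subgroup.le_centralizer_iff.1 hAK).trans (Subgroup.centralizer_le inf_le_left)
    · exact Subgroup.mem_centralizer_singleton_iff.1 hb.2

/-- The rank bound for commuting pairs. -/
theorem card_mul_pow_le (hp2 : p ≠ 2) (hGp : IsOfLocalCharacteristic p G) {N : ℕ}
    (hmax : ∀ P T : Subgroup G, IsElementaryAbelian p P → IsPGroup 2 T → T ≠ ⊥ →
      P ≤ Subgroup.normalizer (T : Set G) → Nat.card P ≤ N) :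
    ∀ (k : ℕ) (K A : Subgroup G), IsElementaryAbelian p K → K ≠ ⊥ → IsElementaryAbelian 2 A →
      Nat.card A = 2 ^ (k + 1) → A ≤ Subgroup.centralizer (K : Set G) →
      Nat.card K * p ^ k ≤ N := by
  intro k
  induction k with
  | zero =>
    intro K A hK _ hA hc hAK
    rw [pow_zero, mul_one]
    refine hmax K A hK (elemAb_isPGroup hA) (fun h => ?_)
      ((Subgroup.le_centralizer_iff.1 hAK).trans (Subgroup.centralizer_le_normalizer _))
    rw [h, Subgroup.card_bot] at hc
    norm_num at hc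
  | succ k ih =>
    intro K A hK hK1 hA hc hAK
    have hA1 : A ≠ ⊥ := fun h => by
      rw [h, Subgroup.card_bot] at hc
      exact absurd hc (ne_of_lt (Nat.one_lt_two_pow (by omega)))
    obtain ⟨y, a, -, -, -, -, -, hel, hcard, A₀, -, hA₀, hc₀, hcent⟩ :=
      exists_step hp2 hGp hK hK1 hA hA1 hAK
    have hne : K ⊔ Subgroup.zpowers y ≠ ⊥ := fun h => hK1 (eq_bot_iff.2 (le_sup_left.trans h.le))
    have h1 := ih _ A₀ hel hne hA₀
      (Nat.eq_of_mul_eq_mul_left two_pos (by rw [← hc₀, hc]; ring)) hcent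
    rw [hcard] at h1
    calc Nat.card K * p ^ (k + 1) = p * Nat.card K * p ^ k := by ring
      _ ≤ N := h1

/-- A critical subgroup of `O_2(M)` for a subgroup of characteristic 2. -/
theorem exists_critical_two (hp2 : p ≠ 2) {M P : Subgroup G} (hM : H72.IsCharP 2 M) (hPM : P ≤ M)
    (hP : IsElementaryAbelian p P) :
    ∃ C : Subgroup G, C ≤ pCoreOf 2 M ∧ M ≤ Subgroup.normalizer (C : Set G) ∧ IsPGroup 2 C ∧
      (∀ x ∈ C, x * x ∈ C ⊓ Subgroup.centralizer (C : Set G)) ∧
      (∀ x ∈ C, ∀ y ∈ C, x * y * x⁻¹ * y⁻¹ ∈ C ⊓ Subgroup.centralizer (C : Set G)) ∧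
      pCoreOf 2 M ⊓ Subgroup.centralizer (C : Set G) ≤ C ∧
      ∀ c ∈ P, c ∈ Subgroup.centralizer (C : Set G) → c = 1 := by
  haveI : Fact (Nat.Prime 2) := ⟨Nat.prime_two⟩
  set Q := pCoreOf 2 M with hQ
  have hQp : IsPGroup 2 Q := H72.pCoreOf_isPGroup 2 M
  obtain ⟨H, hH, hcomm, hsq, -, hCH⟩ := H24.exists_critical hQp
  set C := H.map Q.subtype with hC
  have hCQ : C ≤ Q := Subgroup.map_subtype_le H
  have hmem : ∀ {x : G}, x ∈ C → ∃ hx : x ∈ Q, (⟨x, hx⟩ : Q) ∈ H := by
    rintro x ⟨y, hy, rfl⟩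
    exact ⟨y.2, hy⟩
  have hcent : ∀ {u : Q}, u ∈ H → u ∈ Subgroup.centralizer (H : Set Q) →
      (u : G) ∈ C ⊓ Subgroup.centralizer (C : Set G) := by
    intro u hu huc
    refine ⟨⟨u, hu, rfl⟩, Subgroup.mem_centralizer_iff.2 ?_⟩
    rintro _ ⟨y, hy, rfl⟩
    exact congrArg Subtype.val (Subgroup.mem_centralizer_iff.1 huc y hy)
  have hCC : Q ⊓ Subgroup.centralizer (C : Set G) ≤ C := by
    rintro u ⟨huQ, huc⟩
    exact ⟨⟨u, huQ⟩, hCH (Subgroup.mem_centralizer_iff.2 fun y hy =>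
      Subtype.ext (Subgroup.mem_centralizer_iff.1 huc _ ⟨y, hy, rfl⟩)), rfl⟩
  refine ⟨C, hCQ, ?_, hQp.to_le hCQ, ?_, ?_, hCC, ?_⟩
  · intro m hm
    have key : ∀ m ∈ M, ∀ x ∈ C, m * x * m⁻¹ ∈ C := by
      intro m hm x hx
      obtain ⟨hxQ, hxH⟩ := hmem hx
      have hmn : m ∈ Subgroup.normalizer (Q : Set G) := H72.le_normalizer_pCoreOf 2 M hm
      let φ : Q ≃* Q :=
        { toFun := fun g => ⟨m * g * m⁻¹, conj_mem_of_normalizer hmn g.2⟩
          invFun := fun g => ⟨m⁻¹ * g * m, by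
            simpa using conj_mem_of_normalizer (Subgroup.inv_mem _ hmn) g.2⟩
          left_inv := fun g => Subtype.ext (by simp [mul_assoc])
          right_inv := fun g => Subtype.ext (by simp [mul_assoc])
          map_mul' := fun g g' => Subtype.ext (by simp [mul_assoc]) }
      exact ⟨φ ⟨x, hxQ⟩, Subgroup.characteristic_iff_le_comap.1 hH φ hxH, rfl⟩
    refine Subgroup.mem_normalizer_iff.2 fun x => ⟨key m hm x, fun hx => ?_⟩
    simpa [mul_assoc] using key m⁻¹ (inv_mem hm) _ hx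
  · intro x hx
    obtain ⟨hxQ, hxH⟩ := hmem hx
    have h1 := hcent (pow_mem hxH 2) (hsq _ hxH)
    simpa [pow_two] using h1
  · intro x hx y hy
    obtain ⟨hxQ, hxH⟩ := hmem hx
    obtain ⟨hyQ, hyH⟩ := hmem hy
    exact hcent (u := ⟨x, hxQ⟩ * ⟨y, hyQ⟩ * (⟨x, hxQ⟩ : Q)⁻¹ * (⟨y, hyQ⟩ : Q)⁻¹)
      (mul_mem (mul_mem (mul_mem hxH hyH) (inv_mem hxH)) (inv_mem hyH))
      (by simpa only [commutatorElement_def] using hcomm _ hxH _ hyH)
  · intro c hc hcC
    have hcop : c ^ p = 1 := hP.2 c hc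
    have hodd : Odd p := hp.out.odd_of_ne_two hp2
    have hcQ : c ∈ Subgroup.centralizer (Q : Set G) := by
      refine Subgroup.mem_centralizer_iff.2 fun g hg => ?_
      set v := g⁻¹ * (c * g * c⁻¹) with hv
      have hmn : c ∈ Subgroup.normalizer (Q : Set G) := H72.le_normalizer_pCoreOf 2 M (hPM hc)
      have hvQ : v ∈ Q := mul_mem (inv_mem hg) (conj_mem_of_normalizer hmn hg)
      have hvC : v ∈ C := by
        refine hCC ⟨hvQ, Subgroup.mem_centralizer_iff.2 fun x hx => ?_⟩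
        obtain ⟨hxQ, hxH⟩ := hmem hx
        haveI := hH
        have hgx : g * x * g⁻¹ ∈ C :=
          ⟨⟨g, hg⟩ * ⟨x, hxQ⟩ * ⟨g, hg⟩⁻¹, Subgroup.Normal.conj_mem inferInstance _ hxH _, rfl⟩
        have e1 := Subgroup.mem_centralizer_iff.1 hcC _ hgx
        have e2 : Commute x c := Subgroup.mem_centralizer_iff.1 hcC x hx
        calc x * v = g⁻¹ * ((g * x * g⁻¹) * c) * g * c⁻¹ := by rw [hv]; group
          _ = g⁻¹ * c * g * (x * c⁻¹) := by rw [e1]; group
          _ = g⁻¹ * c * g * (c⁻¹ * x) := by rw [e2.inv_right.eq]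
          _ = v * x := by rw [hv]; group
      have hfix : c * v * c⁻¹ = v :=
        mul_inv_eq_iff_eq_mul.2 ((Subgroup.mem_centralizer_iff.1 hcC v hvC).symm)
      have hgv : c * g * c⁻¹ = g * v := by rw [hv, mul_inv_cancel_left]
      rw [eq_one_of_two_group_pow hQp hvQ hodd (pow_eq_one_of_translate hcop hgv hfix), mul_one]
        at hgv
      exact (mul_inv_eq_iff_eq_mul.1 hgv).symm
    exact eq_one_of_two_group_pow hQp (hM c (hPM hc) hcQ) hodd hcop

/-- No four-group centralizes a hyperplane of a largest `p`-subgroup. -/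
theorem no_four_centralizing_hyperplane (hp2 : p ≠ 2) (hGp : IsOfLocalCharacteristic p G)
    (hG2 : IsCharacteristicTwoType G) {N : ℕ} (hN : p ^ 2 < N)
    (hmax : ∀ P T : Subgroup G, IsElementaryAbelian p P → IsPGroup 2 T → T ≠ ⊥ →
      P ≤ Subgroup.normalizer (T : Set G) → Nat.card P ≤ N)
    {K A : Subgroup G} (hK : IsElementaryAbelian p K) (hKc : p * Nat.card K = N)
    (hA : IsElementaryAbelian 2 A) (hAc : Nat.card A = 4)
    (hAK : A ≤ Subgroup.centralizer (K : Set G)) : False := by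
  haveI : Fact (Nat.Prime 2) := ⟨Nat.prime_two⟩
  have hp1 : 1 < p := hp.out.one_lt
  have bound := card_mul_pow_le hp2 hGp hmax
  have hK1 : K ≠ ⊥ := fun h => by
    rw [h, Subgroup.card_bot, mul_one] at hKc
    nlinarith
  obtain ⟨y, a, hyR, hy1, hyp, haA, hinv, hPel, hPc, A₀, hA₀A, hA₀, hA₀c, hA₀P⟩ :=
    exists_step hp2 hGp hK hK1 hA (fun h => by rw [h, Subgroup.card_bot] at hAc; omega) hAK
  set P := K ⊔ Subgroup.zpowers y with hPdef
  have hPN : Nat.card P = N := by rw [hPc, hKc]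
  obtain ⟨z, hzA₀, hz1⟩ : ∃ z ∈ A₀, z ≠ 1 := by
    by_contra hne
    have hb : A₀ = ⊥ := eq_bot_iff.2 fun x hx => Subgroup.mem_bot.2 (by
      by_contra hx1; exact hne ⟨x, hx, hx1⟩)
    rw [hb, Subgroup.card_bot] at hA₀c
    omega
  have hz2 : z * z = 1 := by rw [← pow_two]; exact hA.2 z (hA₀A hzA₀)
  have hzpow : ∀ x ∈ Subgroup.zpowers z, x = 1 ∨ x = z := by
    intro x hx
    obtain ⟨i, rfl⟩ := Subgroup.mem_zpowers_iff.1 hx
    rcases Int.even_or_odd i with ⟨m, rfl⟩ | ⟨m, rfl⟩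
    · left; rw [← two_mul, zpow_mul, zpow_two, hz2, one_zpow]
    · right; rw [zpow_add, zpow_mul, zpow_two, hz2, one_zpow, one_mul, zpow_one]
  set M := Subgroup.normalizer (Subgroup.zpowers z : Set G) with hMdef
  have hzne : Subgroup.zpowers z ≠ ⊥ := by rwa [ne_eq, Subgroup.zpowers_eq_bot]
  have hz2g : IsPGroup 2 (Subgroup.zpowers z) :=
    elemAb_isPGroup (elemAb_zpowers (by rw [pow_two, hz2]))
  have hchar : H72.IsCharP 2 M := H72.isCharP_iff.2 (hG2.2 _ hz2g hzne)
  have hMz : ∀ m ∈ M, m * z * m⁻¹ = z := by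
    intro m hm
    rcases hzpow _ (conj_mem_of_normalizer hm (Subgroup.mem_zpowers z)) with h | h
    · rw [mul_inv_eq_one] at h
      exact absurd (mul_eq_left.1 h) hz1
    · exact h
  have hmemM : ∀ g : G, g * z = z * g → g ∈ M := fun g hg =>
    mem_normalizer_of_commute fun b hb => by
      rcases hzpow b hb with rfl | rfl
      · rw [one_mul, mul_one]
      · exact hg.symm
  have hzc : z ∈ Subgroup.centralizer (P : Set G) := hA₀P hzA₀
  have hPM : P ≤ M := fun g hg => hmemM g (Subgroup.mem_centralizer_iff.1 hzc g hg)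
  have haM : a ∈ M := hmemM a (elemAb_comm hA haA (hA₀A hzA₀))
  obtain ⟨C, hCQ, hCn, hC2, hCsq, hCcomm, hCC, hCfaith⟩ := exists_critical_two hp2 hchar hPM hPel
  have hCM : C ≤ M := hCQ.trans (H72.pCoreOf_le 2 M)
  have hzC : z ∈ C ⊓ Subgroup.centralizer (C : Set G) := by
    have h1 : z ∈ pCoreOf 2 M :=
      H72.le_pCoreOf Subgroup.le_normalizer le_rfl hz2g (Subgroup.mem_zpowers z)
    have h2 : z ∈ Subgroup.centralizer (C : Set G) :=
      Subgroup.mem_centralizer_iff.2 fun g hg => mul_inv_eq_iff_eq_mul.1 (hMz g (hCM hg))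
    exact ⟨hCC ⟨h1, h2⟩, h2⟩
  have hp2lt : p < N := lt_of_le_of_lt (Nat.le_self_pow two_ne_zero p) hN
  have hPn : P ≤ Subgroup.normalizer (C : Set G) := hPM.trans hCn
  -- the only central involution
  have homega : ∀ u ∈ C ⊓ Subgroup.centralizer (C : Set G), u * u = 1 → u = 1 ∨ u = z := by
    intro u hu hu2
    by_contra hcon
    rw [not_or] at hcon
    have hzu : z * u = u * z := (Subgroup.mem_centralizer_iff.1 hzC.2 u hu.1).symm
    let Ω : Subgroup G :=
      { carrier := {v | v ∈ C ⊓ Subgroup.centralizer (C : Set G) ∧ v * v = 1}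
        one_mem' := ⟨one_mem _, mul_one 1⟩
        mul_mem' := fun {v w} hv hw => ⟨mul_mem hv.1 hw.1, by
          have hvw : v * w = w * v := (Subgroup.mem_centralizer_iff.1 hv.1.2 w hw.1.1).symm
          calc v * w * (v * w) = v * (w * v) * w := by group
            _ = (v * v) * (w * w) := by rw [← hvw]; group
            _ = 1 := by rw [hv.2, hw.2, one_mul]⟩
        inv_mem' := fun {v} hv => ⟨inv_mem hv.1, by rw [← mul_inv_rev, hv.2, inv_one]⟩ }
    have hΩn : P ≤ Subgroup.normalizer (Ω : Set G) := by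
      intro c hc
      have key : ∀ c ∈ P, ∀ v ∈ Ω, c * v * c⁻¹ ∈ Ω := fun c hc v hv =>
        ⟨conj_mem_center (hPn hc) hv.1, by
          rw [show c * v * c⁻¹ * (c * v * c⁻¹) = c * (v * v) * c⁻¹ by group, hv.2, mul_one,
            mul_inv_cancel]⟩
      refine Subgroup.mem_normalizer_iff.2 fun x => ⟨key c hc x, fun hx => ?_⟩
      simpa [mul_assoc] using key c⁻¹ (inv_mem hc) _ hx
    have hΩ2 : IsPGroup 2 Ω := hC2.to_le fun v hv => hv.1.1
    by_cases hfix : Ω ≤ Subgroup.centralizer (P : Set G)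
    · obtain ⟨A', hA', hA'c, hzA', huA', hel⟩ := exists_four hz2 hu2 hz1 hcon.1 hcon.2 hzu
      have hle : A' ≤ Subgroup.centralizer (P : Set G) := fun v hv => by
        rcases hel v hv with rfl | rfl | rfl | rfl
        · exact one_mem _
        · exact hzc
        · exact hfix ⟨hu, hu2⟩
        · exact mul_mem hzc (hfix ⟨hu, hu2⟩)
      have := bound 1 P A' hPel (fun h => by rw [h, Subgroup.card_bot] at hPN; omega) hA'
        (by rw [hA'c]; norm_num) hle
      rw [hPN, pow_one] at this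
      nlinarith
    · obtain ⟨B, c, x, hm⟩ := exists_moved hp2 hPel hΩ2 hΩn hfix
      obtain ⟨hB, hc, -, ⟨hxZ, hx2⟩, hxB, hmv⟩ := id hm
      have hBc : p * Nat.card B = N := by rw [hm.card hPel, hPN]
      set x' := c * x * c⁻¹ with hx'
      have hcz : c * z * c⁻¹ = z := hMz c (hPM hc)
      have hx'2 : x' * x' = 1 := by
        rw [hx', show c * x * c⁻¹ * (c * x * c⁻¹) = c * (x * x) * c⁻¹ by group, hx2, mul_one,
          mul_inv_cancel]
      have hx'Z : x' ∈ C ⊓ Subgroup.centralizer (C : Set G) := conj_mem_center (hPn hc) hxZ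
      have hxz : z * x = x * z := (Subgroup.mem_centralizer_iff.1 hzC.2 x hxZ.1).symm
      have hx'B : x' ∈ Subgroup.centralizer (B : Set G) := by
        refine Subgroup.mem_centralizer_iff.2 fun b hb => ?_
        have e1 : Commute b c := elemAb_comm hPel (hB hb) hc
        have e2 : Commute b x := Subgroup.mem_centralizer_iff.1 hxB b hb
        exact ((e1.mul_right e2).mul_right e1.inv_right).eq
      obtain ⟨A', hA', hA'c, -, -, -, hmin⟩ := exists_eight hz2 hx2 hx'2 hz1
        (fun h => hmv (by rw [hx', h, mul_one, mul_inv_cancel]))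
        (fun h => hmv (by rw [hx', h, hcz]))
        (fun h => hmv (by
          rw [h]
          rw [hx', mul_inv_eq_one, mul_eq_left] at h
          exact h.symm))
        (fun h => hmv (by
          have : x = z := by
            have := congrArg (fun g => c⁻¹ * g * c) (h.trans hcz.symm)
            simpa [hx', mul_assoc] using this
          rw [h, this]))
        hmv
        (fun h => by
          have hv : z ^ p = 1 := pow_eq_one_of_translate (hPel.2 c hc)
            (show c * x * c⁻¹ = x * z by rw [← hxz]; exact h) hcz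
          exact hz1 (eq_one_of_two_group_pow hz2g (Subgroup.mem_zpowers z)
            (hp.out.odd_of_ne_two hp2) hv))
        hxz ((Subgroup.mem_centralizer_iff.1 hzC.2 x' hx'Z.1).symm)
        ((Subgroup.mem_centralizer_iff.1 hxZ.2 x' hx'Z.1).symm)
      have := bound 2 B A' (elemAb_of_le hPel hB)
        (fun h => by rw [h, Subgroup.card_bot] at hBc; omega) hA' (by rw [hA'c]; norm_num)
        (hmin _ (Subgroup.centralizer_le (fun b hb => hB hb) hzc) hxB hx'B)
      nlinarith [(Nat.card_pos : 0 < Nat.card B)]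
  have data : TwoData p P C z :=
    { two := hC2, sq := hCsq, comm := hCcomm, omega := homega, norm := hPn, elem := hPel
      fix := fun c hc => hMz c (hPM hc), zmem := hzC, zsq := hz2, odd := hp.out.odd_of_ne_two hp2 }
  -- a hyperplane moving something and avoiding `y`
  have hyM : y ∈ M := hPM (Subgroup.mem_sup_right (Subgroup.mem_zpowers y))
  obtain ⟨B, c, x, hm, hyB⟩ : ∃ (B : Subgroup G) (c x : G), MovedAt P C B c x ∧ y ∉ B := by
    have hyC : ¬ C ≤ Subgroup.centralizer ({y} : Set G) := fun hle => hy1 (hCfaith y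
      (Subgroup.mem_sup_right (Subgroup.mem_zpowers y)) (Subgroup.mem_centralizer_iff.2 fun g hg =>
        Subgroup.mem_centralizer_singleton_iff.1 (hle hg)))
    obtain ⟨B, c, x, hB, hc, hsup, hx, hxB, hxy⟩ :=
      exists_hyperplane_element hp2 hPel hC2 hPn hyC
    have hyB : y ∉ B := fun h => hxy (Subgroup.mem_centralizer_singleton_iff.2
      ((Subgroup.mem_centralizer_iff.1 hxB y h).symm))
    refine ⟨B, c, x, ⟨hB, hc, hsup, hx, hxB, fun hfix => hxy ?_⟩, hyB⟩
    obtain ⟨b, hb, i, hyb⟩ := mem_sup_zpowers (mem_normalizer_of_commute fun b hb =>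
      elemAb_comm hPel (hB hb) hc) (hsup.ge (Subgroup.mem_sup_right (Subgroup.mem_zpowers y)))
    rw [Subgroup.mem_centralizer_singleton_iff, hyb]
    exact ((show Commute b x from Subgroup.mem_centralizer_iff.1 hxB b hb).mul_left
      ((show Commute c x from mul_inv_eq_iff_eq_mul.1 hfix).zpow_left i)).symm.eq
  have hB : B ≤ P := hm.le
  have hBc : p * Nat.card B = Nat.card P := hm.card hPel
  have hainv : a⁻¹ = a := inv_eq_of_mul_eq_one_right (by rw [← pow_two]; exact hA.2 a haA)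
  have haK : ∀ k ∈ K, a * k * a⁻¹ = k := fun k hk =>
    mul_inv_eq_iff_eq_mul.2 (Subgroup.mem_centralizer_iff.1 (hAK haA) k hk).symm
  have hKy : ∀ k ∈ K, k * y = y * k := fun k hk =>
    Subgroup.mem_centralizer_iff.1 (H72.pCoreOf_le p _ hyR) k hk
  have hPa : ∀ g ∈ P, ∃ k ∈ K, ∃ i : ℤ, g = k * y ^ i ∧ a * g * a⁻¹ = k * (y ^ i)⁻¹ := by
    intro g hg
    obtain ⟨k, hk, i, rfl⟩ := mem_sup_zpowers (mem_normalizer_of_commute hKy) hg
    refine ⟨k, hk, i, rfl, ?_⟩
    rw [show a * (k * y ^ i) * a⁻¹ = (a * k * a⁻¹) * (a * y ^ i * a⁻¹) by group, haK k hk,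
      ← MulAut.conj_apply, map_zpow, MulAut.conj_apply, hinv, inv_zpow]
  have hyi : ∀ i : ℤ, y ^ i * y ^ i ∈ B → y ^ i = 1 := by
    intro i hi
    by_contra hne
    refine hyB ?_
    have ho : orderOf y = p := orderOf_eq_prime hyp hy1
    have hd : ¬ (p : ℤ) ∣ i := fun hd => hne (orderOf_dvd_iff_zpow_eq_one.1 (ho ▸ hd))
    have hd2 : ¬ (p : ℤ) ∣ i + i := fun hd2 => by
      rw [← two_mul] at hd2
      rcases (Nat.prime_iff_prime_int.1 hp.out).dvd_or_dvd hd2 with h | h
      · exact hp2 ((Nat.prime_dvd_prime_iff_eq hp.out Nat.prime_two).1 (by exact_mod_cast h))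
      · exact hd h
    have hcop : IsCoprime (p : ℤ) (i + i) :=
      ((Nat.prime_iff_prime_int.1 hp.out).coprime_iff_not_dvd).2 hd2
    obtain ⟨s, t, hst⟩ := hcop
    have e : y = (y ^ (p : ℤ)) ^ s * (y ^ (i + i)) ^ t := by
      rw [← zpow_mul, ← zpow_mul, ← zpow_add, mul_comm (p : ℤ), mul_comm (i + i), hst, zpow_one]
    rw [e, zpow_natCast, hyp, one_zpow, one_mul, zpow_add]
    exact zpow_mem hi t
  set φ := (MulAut.conj a).toMonoidHom with hφ
  set B' := B.map φ with hB'def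
  have hmemB' : ∀ g, g ∈ B' ↔ a * g * a⁻¹ ∈ B := by
    intro g
    constructor
    · rintro ⟨b, hb, rfl⟩
      have : a * (a * b * a⁻¹) * a⁻¹ = b := by
        rw [hainv, show a * (a * b * a) * a = (a * a) * b * (a * a) by group,
          ← pow_two, hA.2 a haA, one_mul, mul_one]
      show a * (φ b) * a⁻¹ ∈ B
      rw [show φ b = a * b * a⁻¹ from rfl, this]
      exact hb
    · intro hg
      refine ⟨a * g * a⁻¹, hg, ?_⟩
      show a * (a * g * a⁻¹) * a⁻¹ = g
      rw [hainv, show a * (a * g * a) * a = (a * a) * g * (a * a) by group, ← pow_two,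
        hA.2 a haA, one_mul, mul_one]
  have hB'P : B' ≤ P := by
    rintro _ ⟨b, hb, rfl⟩
    obtain ⟨k, hk, i, -, hgi⟩ := hPa b (hB hb)
    show a * b * a⁻¹ ∈ P
    rw [hgi]
    exact mul_mem (Subgroup.mem_sup_left hk)
      (inv_mem (Subgroup.mem_sup_right (zpow_mem (Subgroup.mem_zpowers y) i)))
  have hB'c : Nat.card B' = Nat.card B :=
    Subgroup.card_map_of_injective (MulAut.conj a).injective
  have hne : B' ≠ B := by
    intro heq
    have hBK : B ≤ K := by
      intro b hb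
      obtain ⟨k, hk, i, hbi, hgi⟩ := hPa b (hB hb)
      have h2 : k * (y ^ i)⁻¹ ∈ B := hgi ▸ (hmemB' b).1 (heq.symm ▸ hb)
      have h3 : y ^ i * y ^ i ∈ B := by
        have := mul_mem (inv_mem h2) (hbi ▸ hb)
        rwa [mul_inv_rev, inv_inv, mul_assoc, inv_mul_cancel_left] at this
      rw [hbi, hyi i h3, mul_one]
      exact hk
    have hBK' : B = K := Subgroup.eq_of_le_of_card_ge hBK
      (Nat.le_of_eq (Nat.eq_of_mul_eq_mul_left hp.out.pos (by rw [hBc, hPN, hKc])))
    -- `y` would fix `x`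
    have hxL : x ∈ Subgroup.centralizer (K : Set G) := hBK' ▸ hm.fixB
    have h1 : x * y * x⁻¹ * y⁻¹ ∈ pCoreOf p (Subgroup.centralizer (K : Set G)) :=
      mul_mem (conj_mem_of_normalizer (H72.le_normalizer_pCoreOf p _ hxL) hyR) (inv_mem hyR)
    have h2 : x * y * x⁻¹ * y⁻¹ ∈ C := by
      rw [show x * y * x⁻¹ * y⁻¹ = x * (y * x⁻¹ * y⁻¹) by group]
      exact mul_mem hm.hx (conj_mem_of_normalizer (hCn hyM) (inv_mem hm.hx))
    have h3 : x * y * x⁻¹ * y⁻¹ = 1 := by
      obtain ⟨k, hk⟩ := H72.pCoreOf_isPGroup p (Subgroup.centralizer (K : Set G)) ⟨_, h1⟩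
      exact eq_one_of_two_group_pow hC2 h2 ((hp.out.odd_of_ne_two hp2).pow (n := k))
        (by simpa using congrArg Subtype.val hk)
    have hxy : Commute x y := mul_inv_eq_iff_eq_mul.1 (mul_inv_eq_one.1 h3)
    obtain ⟨k, hk, i, hci⟩ := mem_sup_zpowers (mem_normalizer_of_commute hKy) hm.hc
    refine hm.moved (mul_inv_eq_iff_eq_mul.2 ?_)
    rw [hci]
    exact ((show Commute k x from Subgroup.mem_centralizer_iff.1 hxL k hk).mul_left
      (hxy.symm.zpow_left i)).eq
  have hsupBB : P ≤ B ⊔ B' := sup_eq_of_ne_hyperplane hPel hB hB'P hBc hB'c hne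
  obtain ⟨w, w', ⟨hwC, hwB⟩, ⟨hw'C, hw'B⟩, hwsq, hw'sq, hwP, hw'P, hwwP, hcom⟩ :=
    data.exists_pair hm
  have haC : ∀ g ∈ C, a * g * a⁻¹ ∈ C := fun g hg => conj_mem_of_normalizer (hCn haM) hg
  have haB : ∀ g, g ∈ Subgroup.centralizer (B : Set G) →
      a * g * a⁻¹ ∈ Subgroup.centralizer (B' : Set G) := by
    intro g hg
    refine Subgroup.mem_centralizer_iff.2 ?_
    rintro _ ⟨b, hb, rfl⟩
    show a * b * a⁻¹ * (a * g * a⁻¹) = a * g * a⁻¹ * (a * b * a⁻¹)
    rw [show a * b * a⁻¹ * (a * g * a⁻¹) = a * (b * g) * a⁻¹ by group,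
      Subgroup.mem_centralizer_iff.1 hg b hb]
    group
  have haz : a * z * a⁻¹ = z := hMz a haM
  set v := a * w * a⁻¹ with hv
  set v' := a * w' * a⁻¹ with hv'
  obtain ⟨c1, c2⟩ := hcom B' hB'P hsupBB v (haC w hwC) (haB w hwB)
  obtain ⟨c3, c4⟩ := hcom B' hB'P hsupBB v' (haC w' hw'C) (haB w' hw'B)
  obtain ⟨κ, hκ, hww, hκ2, hκm⟩ := data.comm_val hwC hw'C
  have hκa : a * κ * a⁻¹ = κ := by
    rcases hκ with rfl | rfl
    · rw [mul_one, mul_inv_cancel]
    · exact haz
  have hvv : v * v' = κ * (v' * v) := by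
    rw [hv, hv', show a * w * a⁻¹ * (a * w' * a⁻¹) = a * (w * w') * a⁻¹ by group, hww,
      show a * (κ * (w' * w)) * a⁻¹ = (a * κ * a⁻¹) * (a * w' * a⁻¹ * (a * w * a⁻¹)) by group, hκa]
  have hvsq : v * v = w * w := by
    rw [hv, show a * w * a⁻¹ * (a * w * a⁻¹) = a * (w * w) * a⁻¹ by group]
    rcases hwsq with h | h <;> rw [h]
    · rw [mul_one, mul_inv_cancel]
    · exact haz
  have hwww : w * w * (w * w) = 1 := by
    rcases hwsq with h | h <;> rw [h]
    · exact mul_one 1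
    · exact hz2
  set d := w * v with hd
  set d' := w' * v' with hd'
  have hdd : d * d = 1 := by
    calc d * d = w * (v * w) * v := by rw [hd]; group
      _ = w * w * (v * v) := by rw [← c1, hd]; group
      _ = 1 := by rw [hvsq, hwww]
  have hd'd' : d' * d' = 1 := by
    calc d' * d' = w' * (v' * w') * v' := by rw [hd']; group
      _ = w' * w' * (v' * v') := by rw [← c4, hd']; group
      _ = 1 := by
        rw [hv', show a * w' * a⁻¹ * (a * w' * a⁻¹) = a * (w' * w') * a⁻¹ by group, hw'sq]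
        rw [show a * (w * w) * a⁻¹ = v * v by rw [hv]; group, hvsq, hwww]
  have hcdd : d * d' = d' * d := by
    calc d * d' = w * (v * w') * v' := by rw [hd, hd']; group
      _ = w * w' * (v * v') := by rw [← c2]; group
      _ = κ * (w' * w) * (κ * (v' * v)) := by rw [hww, hvv]
      _ = κ * (w' * w * κ) * (v' * v) := by group
      _ = κ * κ * (w' * (w * v') * v) := by
        rw [← data.center_comm hκm (mul_mem hw'C hwC)]; group
      _ = d' * d := by rw [hκ2, one_mul, c3, hd', hd]; group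
  have hdC : d ∈ C := mul_mem hwC (haC w hwC)
  have hd'C : d' ∈ C := mul_mem hw'C (haC w' hw'C)
  have hzB' : z ∈ Subgroup.centralizer (B' : Set G) :=
    Subgroup.centralizer_le (fun g hg => hB'P hg) hzc
  have hnot : ∀ {u t : G}, u ∈ Subgroup.centralizer (B : Set G) →
      t ∈ Subgroup.centralizer (B' : Set G) → u ∉ Subgroup.centralizer (P : Set G) →
      u * t ≠ 1 ∧ u * t ≠ z := by
    intro u t hu ht huP
    have key : u ∈ Subgroup.centralizer (B' : Set G) → False := fun hu' =>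
      huP (Subgroup.centralizer_le (fun g hg => hsupBB hg) (by
        rw [Subgroup.mem_centralizer_iff]
        intro g hg
        have hle : B ⊔ B' ≤ Subgroup.centralizer ({u} : Set G) := sup_le
          (fun b hb => Subgroup.mem_centralizer_singleton_iff.2
            (Subgroup.mem_centralizer_iff.1 hu b hb))
          (fun b hb => Subgroup.mem_centralizer_singleton_iff.2
            (Subgroup.mem_centralizer_iff.1 hu' b hb))
        exact Subgroup.mem_centralizer_singleton_iff.1 (hle hg)))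
    constructor
    · intro h
      exact key (eq_inv_of_mul_eq_one_left h ▸ Subgroup.inv_mem _ ht)
    · intro h
      refine key ?_
      rw [show u = z * t⁻¹ by rw [← h, mul_inv_cancel_right]]
      exact Subgroup.mul_mem _ hzB' (Subgroup.inv_mem _ ht)
  have hvB' : v ∈ Subgroup.centralizer (B' : Set G) := haB w hwB
  have hv'B' : v' ∈ Subgroup.centralizer (B' : Set G) := haB w' hw'B
  obtain ⟨n1, n2⟩ := hnot hwB hvB' hwP
  obtain ⟨n3, n4⟩ := hnot hw'B hv'B' hw'P
  obtain ⟨n5, n6⟩ :=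
    hnot (Subgroup.mul_mem _ hwB hw'B) (Subgroup.mul_mem _ hvB' hv'B') hwwP
  have hdd' : d * d' = w * w' * (v * v') := by
    rw [hd, hd', show w * v * (w' * v') = w * (v * w') * v' by group, ← c2]; group
  obtain ⟨A', hA', hA'c, hzA', hdA', hd'A', hmin⟩ := exists_eight hz2 hdd hd'd' hz1 n1 n2 n3 n4
    (fun h => n5 (by rw [← hdd', h, hdd]))
    (fun h => n6 (by
      rw [← hdd', h, ← mul_assoc, (Subgroup.mem_centralizer_iff.1 hzC.2 d hdC), mul_assoc, hdd,
        mul_one]))
    ((Subgroup.mem_centralizer_iff.1 hzC.2 d hdC).symm)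
    ((Subgroup.mem_centralizer_iff.1 hzC.2 d' hd'C).symm) hcdd
  -- adjoin `a`
  have haA' : ∀ g ∈ A', g * a = a * g := by
    have hda : d * a = a * d := by
      have : a * d * a⁻¹ = d := by
        calc a * d * a⁻¹ = (a * w * a⁻¹) * (a * v * a⁻¹) := by rw [hd]; group
          _ = v * w := by
            rw [hv, hainv, show a * (a * w * a) * a = (a * a) * w * (a * a) by group, ← pow_two,
              hA.2 a haA, one_mul, mul_one]
          _ = d := c1.symm
      exact (mul_inv_eq_iff_eq_mul.1 this).symm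
    have hd'a : d' * a = a * d' := by
      have : a * d' * a⁻¹ = d' := by
        calc a * d' * a⁻¹ = (a * w' * a⁻¹) * (a * v' * a⁻¹) := by rw [hd']; group
          _ = v' * w' := by
            rw [hv', hainv, show a * (a * w' * a) * a = (a * a) * w' * (a * a) by group, ← pow_two,
              hA.2 a haA, one_mul, mul_one]
          _ = d' := c4.symm
      exact (mul_inv_eq_iff_eq_mul.1 this).symm
    intro g hg
    exact Subgroup.mem_centralizer_singleton_iff.1 (hmin (Subgroup.centralizer ({a} : Set G))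
      (Subgroup.mem_centralizer_singleton_iff.2 (mul_inv_eq_iff_eq_mul.1 haz).symm)
      (Subgroup.mem_centralizer_singleton_iff.2 hda)
      (Subgroup.mem_centralizer_singleton_iff.2 hd'a) hg)
  have haNC : a ∉ C := by
    intro hac
    have h1 : a * y * a⁻¹ * y⁻¹ ∈ C := by
      rw [show a * y * a⁻¹ * y⁻¹ = a * (y * a⁻¹ * y⁻¹) by group]
      exact mul_mem hac (conj_mem_of_normalizer (hCn hyM) (inv_mem hac))
    rw [hinv, ← mul_inv_rev, ← pow_two, inv_mem_iff] at h1
    have h2 : y ^ 2 = 1 := eq_one_of_two_group_pow hC2 h1 (hp.out.odd_of_ne_two hp2)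
      (by rw [← pow_mul, mul_comm, pow_mul, hyp, one_pow])
    exact hy1 (orderOf_eq_one_iff.1 (Nat.eq_one_of_dvd_coprimes
      ((Nat.coprime_primes Nat.prime_two hp.out).2 (Ne.symm hp2))
      (orderOf_dvd_of_pow_eq_one h2) (orderOf_dvd_of_pow_eq_one hyp)))
  have haA'n : a ∉ A' := fun h => haNC (hmin C hzC.1 hdC hd'C h)
  set B2 := B ⊓ B' with hB2def
  have ha2 : a ^ 2 = 1 := hA.2 a haA
  have hcent16 : A' ⊔ Subgroup.zpowers a ≤ Subgroup.centralizer (B2 : Set G) := by
    have hcz : ∀ g, g ∈ Subgroup.centralizer (P : Set G) →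
        g ∈ Subgroup.centralizer (B2 : Set G) :=
      fun g hg => Subgroup.centralizer_le (fun b hb => hB hb.1) hg
    have h1 : ∀ g, g ∈ Subgroup.centralizer (B : Set G) →
        g ∈ Subgroup.centralizer (B2 : Set G) :=
      fun g hg => Subgroup.centralizer_le (fun b hb => hb.1) hg
    have h2 : ∀ g, g ∈ Subgroup.centralizer (B' : Set G) →
        g ∈ Subgroup.centralizer (B2 : Set G) :=
      fun g hg => Subgroup.centralizer_le (fun b hb => hb.2) hg
    refine sup_le (hmin _ (hcz z hzc) (Subgroup.mul_mem _ (h1 w hwB) (h2 v hvB'))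
      (Subgroup.mul_mem _ (h1 w' hw'B) (h2 v' hv'B'))) (Subgroup.zpowers_le.2 ?_)
    refine Subgroup.mem_centralizer_iff.2 fun b hb => ?_
    obtain ⟨k, hk, i, hbi, hgi⟩ := hPa b (hB hb.1)
    have h3 : y ^ i * y ^ i ∈ B := by
      have := mul_mem (inv_mem (hgi ▸ (hmemB' b).1 hb.2 : k * (y ^ i)⁻¹ ∈ B)) (hbi ▸ hb.1)
      rwa [mul_inv_rev, inv_inv, mul_assoc, inv_mul_cancel_left] at this
    rw [hbi, hyi i h3, mul_one]
    exact (mul_inv_eq_iff_eq_mul.1 (haK k hk)).symm
  have hB2c : Nat.card B ≤ p * Nat.card B2 :=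
    card_le_mul_card_inf hB hB'P (by rw [hB'c, hBc])
  have hB2ne : B2 ≠ ⊥ := fun h => by
    rw [h, Subgroup.card_bot] at hB2c
    nlinarith
  have h16 := bound 3 B2 (A' ⊔ Subgroup.zpowers a) (elemAb_of_le hPel (inf_le_left.trans hB)) hB2ne
    (elemAb_sup_zpowers hA' ha2 haA')
    (by rw [card_sup_zpowers Nat.prime_two ha2 haA'n haA', hA'c]; norm_num) hcent16
  have : N ≤ p * p * Nat.card B2 := by
    rw [← hPN, ← hBc, mul_assoc]
    exact Nat.mul_le_mul_left p hB2c
  nlinarith [(Nat.card_pos : 0 < Nat.card B2), Nat.mul_pos hp.out.pos hp.out.pos]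

/-- The Klinger–Mason bound. -/
theorem twoLocal_pRank_le_two (hp2 : p ≠ 2) (hGp : IsOfLocalCharacteristic p G)
    (hG2 : IsCharacteristicTwoType G) {H : Subgroup G} (hH : IsTwoLocal H) : PRankLE p 2 H := by
  classical
  haveI : Fact (Nat.Prime 2) := ⟨Nat.prime_two⟩
  intro A hAc hAp
  by_contra hbig
  obtain ⟨T₀, hT₀, hT₀1, rfl⟩ := hH
  set s := {P : Subgroup G | IsElementaryAbelian p P ∧ ∃ T : Subgroup G, IsPGroup 2 T ∧ T ≠ ⊥ ∧
      P ≤ Subgroup.normalizer (T : Set G)} with hs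
  have hAmem : A.map (Subgroup.normalizer (T₀ : Set G)).subtype ∈ s := by
    haveI := hAc
    refine ⟨⟨inferInstance, ?_⟩, T₀, hT₀, hT₀1, Subgroup.map_subtype_le A⟩
    rintro _ ⟨u, hu, rfl⟩
    exact (map_pow _ u p).symm.trans ((congrArg _ (hAp u hu)).trans (map_one _))
  obtain ⟨E, ⟨hE, T, hT, hT1, hET⟩, hEmax⟩ :=
    Set.exists_max_image s (fun P => Nat.card P) (Set.toFinite s) ⟨_, hAmem⟩
  have hN : p ^ 2 < Nat.card E := by
    refine lt_of_lt_of_le ?_ (hEmax _ hAmem)
    rw [Subgroup.card_map_of_injective (Subgroup.subtype_injective _)]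
    exact not_le.1 hbig
  set N := Nat.card E with hNdef
  have hmax : ∀ P T : Subgroup G, IsElementaryAbelian p P → IsPGroup 2 T → T ≠ ⊥ →
      P ≤ Subgroup.normalizer (T : Set G) → Nat.card P ≤ N :=
    fun P T h1 h2 h3 h4 => hEmax P ⟨h1, T, h2, h3, h4⟩
  have hp1 : 1 < p := hp.out.one_lt
  have noFour : ∀ {K A : Subgroup G}, IsElementaryAbelian p K → p * Nat.card K = N →
      IsElementaryAbelian 2 A → Nat.card A = 4 → A ≤ Subgroup.centralizer (K : Set G) → False :=
    fun h1 h2 h3 h4 h5 => no_four_centralizing_hyperplane hp2 hGp hG2 hN hmax h1 h2 h3 h4 h5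
  have bound := card_mul_pow_le hp2 hGp hmax
  have hE1 : E ≠ ⊥ := fun h => by
    rw [hNdef, h, Subgroup.card_bot] at hN
    nlinarith
  obtain ⟨C, -, hCn, hC2, hCsq, hCcomm, -, hCfaith⟩ :=
    exists_critical_two hp2 (H72.isCharP_iff.2 (hG2.2 T hT hT1)) hET hE
  have hEn : E ≤ Subgroup.normalizer (C : Set G) := hET.trans hCn
  have hodd : Odd p := hp.out.odd_of_ne_two hp2
  have hCne : ¬ C ≤ Subgroup.centralizer (E : Set G) := by
    intro hle
    refine hE1 (eq_bot_iff.2 fun c hc => Subgroup.mem_bot.2 (hCfaith c hc ?_))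
    exact Subgroup.le_centralizer_iff.1 hle hc
  -- every central involution of `C` is fixed
  have hfix : ∀ u ∈ C ⊓ Subgroup.centralizer (C : Set G), u * u = 1 →
      u ∈ Subgroup.centralizer (E : Set G) := by
    intro u hu hu2
    by_contra hnot
    let Ω : Subgroup G :=
      { carrier := {v | v ∈ C ⊓ Subgroup.centralizer (C : Set G) ∧ v * v = 1}
        one_mem' := ⟨one_mem _, mul_one 1⟩
        mul_mem' := fun {v w} hv hw => ⟨mul_mem hv.1 hw.1, by
          have hvw : v * w = w * v := (Subgroup.mem_centralizer_iff.1 hv.1.2 w hw.1.1).symm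
          calc v * w * (v * w) = v * (w * v) * w := by group
            _ = (v * v) * (w * w) := by rw [← hvw]; group
            _ = 1 := by rw [hv.2, hw.2, one_mul]⟩
        inv_mem' := fun {v} hv => ⟨inv_mem hv.1, by rw [← mul_inv_rev, hv.2, inv_one]⟩ }
    have hΩn : E ≤ Subgroup.normalizer (Ω : Set G) := by
      intro c hc
      have key : ∀ c ∈ E, ∀ v ∈ Ω, c * v * c⁻¹ ∈ Ω := fun c hc v hv =>
        ⟨conj_mem_center (hEn hc) hv.1, by
          rw [show c * v * c⁻¹ * (c * v * c⁻¹) = c * (v * v) * c⁻¹ by group, hv.2, mul_one,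
            mul_inv_cancel]⟩
      refine Subgroup.mem_normalizer_iff.2 fun x => ⟨key c hc x, fun hx => ?_⟩
      simpa [mul_assoc] using key c⁻¹ (inv_mem hc) _ hx
    obtain ⟨B, c, x, hm⟩ := exists_moved (K := Ω) hp2 hE (hC2.to_le fun v hv => hv.1.1) hΩn
      (fun hle => hnot (hle ⟨hu, hu2⟩))
    obtain ⟨hB, hc, -, ⟨hxZ, hx2⟩, hxB, hmv⟩ := id hm
    set x' := c * x * c⁻¹ with hx'
    have hx'2 : x' * x' = 1 := by
      rw [hx', show c * x * c⁻¹ * (c * x * c⁻¹) = c * (x * x) * c⁻¹ by group, hx2, mul_one,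
        mul_inv_cancel]
    have hxx : x * x' = x' * x :=
      (Subgroup.mem_centralizer_iff.1 hxZ.2 x' (conj_mem_of_normalizer (hEn hc) hxZ.1)).symm
    obtain ⟨A', hA', hA'c, -, -, hel⟩ := exists_four hx2 hx'2
      (fun h => hmv (by rw [hx', h, mul_one, mul_inv_cancel]))
      (fun h => hmv (by
        rw [h]
        rw [hx', mul_inv_eq_one, mul_eq_left] at h
        exact h.symm))
      hmv hxx
    have hx'B : x' ∈ Subgroup.centralizer (B : Set G) := by
      refine Subgroup.mem_centralizer_iff.2 fun b hb => ?_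
      have e1 : Commute b c := elemAb_comm hE (hB hb) hc
      have e2 : Commute b x := Subgroup.mem_centralizer_iff.1 hxB b hb
      exact ((e1.mul_right e2).mul_right e1.inv_right).eq
    refine noFour (elemAb_of_le hE hB) (hm.card hE) hA' hA'c fun g hg => ?_
    rcases hel g hg with rfl | rfl | rfl | rfl
    · exact one_mem _
    · exact hxB
    · exact hx'B
    · exact Subgroup.mul_mem _ hxB hx'B
  have hcent_two : ∀ {u u' : G}, u ∈ C ⊓ Subgroup.centralizer (C : Set G) → u * u = 1 → u ≠ 1 →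
      u' ∈ C ⊓ Subgroup.centralizer (C : Set G) → u' * u' = 1 → u' ≠ 1 → u' = u := by
    intro u u' hu hu2 hu1 hu' hu'2 hu'1
    by_contra hne
    obtain ⟨A', hA', hA'c, -, -, hel⟩ := exists_four hu2 hu'2 hu1 hu'1 hne
      ((Subgroup.mem_centralizer_iff.1 hu'.2 u hu.1))
    have := bound 1 E A' hE hE1 hA' (by rw [hA'c]; norm_num) fun g hg => by
      rcases hel g hg with rfl | rfl | rfl | rfl
      · exact one_mem _
      · exact hfix _ hu hu2
      · exact hfix _ hu' hu'2
      · exact Subgroup.mul_mem _ (hfix _ hu hu2) (hfix _ hu' hu'2)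
    rw [pow_one] at this
    nlinarith
  -- the central involution
  have hCbot : C ≠ ⊥ := fun h => hCne (h ▸ bot_le)
  obtain ⟨z, hzC, hz2, hz1⟩ : ∃ z ∈ C ⊓ Subgroup.centralizer (C : Set G), z * z = 1 ∧ z ≠ 1 := by
    haveI : Nontrivial C := (Subgroup.nontrivial_iff_ne_bot C).2 hCbot
    haveI := IsPGroup.center_nontrivial hC2
    obtain ⟨g, hg1⟩ := exists_ne (1 : Subgroup.center C)
    obtain ⟨k, hk⟩ := IsPGroup.iff_orderOf.1 (hC2.to_subgroup (Subgroup.center C)) g
    obtain ⟨j, rfl⟩ : ∃ j, k = j + 1 := Nat.exists_eq_succ_of_ne_zero fun h0 =>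
      hg1 (orderOf_eq_one_iff.1 (by rw [hk, h0, pow_zero]))
    refine ⟨(((g ^ 2 ^ j : Subgroup.center C) : C) : G), ⟨SetLike.coe_mem _, ?_⟩, ?_, ?_⟩
    · refine Subgroup.mem_centralizer_iff.2 fun y hy => ?_
      exact congrArg Subtype.val
        (Subgroup.mem_center_iff.1 (g ^ 2 ^ j : Subgroup.center C).2 ⟨y, hy⟩)
    · rw [← Subgroup.coe_mul, ← Subgroup.coe_mul, ← pow_add, ← two_mul, ← pow_succ', ← hk,
        pow_orderOf_eq_one]
      rfl
    · intro h
      have h' : g ^ 2 ^ j = 1 := Subtype.ext (Subtype.ext h)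
      have := orderOf_dvd_of_pow_eq_one h'
      rw [hk, Nat.pow_dvd_pow_iff_le_right one_lt_two] at this
      omega
  have hzE : z ∈ Subgroup.centralizer (E : Set G) := hfix z hzC hz2
  have data : TwoData p E C z :=
    { two := hC2, sq := hCsq, comm := hCcomm
      omega := fun u hu hu2 => or_iff_not_imp_left.2 fun hu1 => hcent_two hzC hz2 hz1 hu hu2 hu1
      norm := hEn, elem := hE
      fix := fun c hc => mul_inv_eq_iff_eq_mul.2 (Subgroup.mem_centralizer_iff.1 hzE c hc)
      zmem := hzC, zsq := hz2, odd := hodd }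
  -- two moved hyperplanes
  obtain ⟨B₁, c₁, x₁, hm₁⟩ := exists_moved hp2 hE hC2 hEn hCne
  obtain ⟨e, he, he1⟩ : ∃ e ∈ B₁, e ≠ 1 := by
    by_contra hne
    have hb : B₁ = ⊥ := eq_bot_iff.2 fun x hx => Subgroup.mem_bot.2 (by
      by_contra hx1; exact hne ⟨x, hx, hx1⟩)
    have h' := hm₁.card hE
    rw [hb, Subgroup.card_bot, mul_one, ← hNdef] at h'
    nlinarith
  obtain ⟨B₂, c₂, x₂, hm₂, hne⟩ : ∃ (B : Subgroup G) (c x : G), MovedAt E C B c x ∧ B ≠ B₁ := by
    have heC : ¬ C ≤ Subgroup.centralizer ({e} : Set G) := fun hle =>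
      he1 (hCfaith e (hm₁.le he) (Subgroup.mem_centralizer_iff.2 fun g hg =>
        Subgroup.mem_centralizer_singleton_iff.1 (hle hg)))
    obtain ⟨B, c, x, hB, hc, hsup, hx, hxB, hxe⟩ := exists_hyperplane_element hp2 hE hC2 hEn heC
    refine ⟨B, c, x, ⟨hB, hc, hsup, hx, hxB, fun hfx => hxe ?_⟩, fun hBB => hxe ?_⟩
    · have hle : E ≤ Subgroup.centralizer ({x} : Set G) := by
        rw [← hsup]
        exact sup_le (fun b hb => Subgroup.mem_centralizer_singleton_iff.2
          (Subgroup.mem_centralizer_iff.1 hxB b hb))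
          (Subgroup.zpowers_le.2 (Subgroup.mem_centralizer_singleton_iff.2
            (mul_inv_eq_iff_eq_mul.1 hfx)))
      exact Subgroup.mem_centralizer_singleton_iff.2
        (Subgroup.mem_centralizer_singleton_iff.1 (hle (hm₁.le he))).symm
    · exact Subgroup.mem_centralizer_singleton_iff.2
        (Subgroup.mem_centralizer_iff.1 hxB e (hBB ▸ he)).symm
  have hc1 := hm₁.card hE
  have hc2 := hm₂.card hE
  have hB12 : Nat.card B₂ = Nat.card B₁ :=
    Nat.eq_of_mul_eq_mul_left hp.out.pos (hc2.trans hc1.symm)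
  have hsup : E ≤ B₁ ⊔ B₂ := sup_eq_of_ne_hyperplane hE hm₁.le hm₂.le hc1 hB12 hne
  -- a pair in each; neither can commute
  have pairFacts : ∀ {B : Subgroup G} {w w' : G}, p * Nat.card B = N → B ≤ E → w ∈ C → w' ∈ C →
      w ∈ Subgroup.centralizer (B : Set G) → w' ∈ Subgroup.centralizer (B : Set G) →
      (w * w = 1 ∨ w * w = z) → w' * w' = w * w → w ∉ Subgroup.centralizer (E : Set G) →
      w * w' ∉ Subgroup.centralizer (E : Set G) → w * w = z ∧ w * w' = z * (w' * w) := by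
    intro B w w' hBc hBE hwC hw'C hwB hw'B hsq hsq' hwE hwwE
    have four : ∀ {u : G}, u ∈ C → u ∈ Subgroup.centralizer (B : Set G) → u * u = 1 →
        u ∉ Subgroup.centralizer (E : Set G) → False := by
      intro u huC huB hu2 huE
      obtain ⟨A', hA', hA'c, -, -, hel⟩ := exists_four hz2 hu2 hz1
        (fun h => huE (h ▸ one_mem _)) (fun h => huE (h ▸ hzE))
        ((Subgroup.mem_centralizer_iff.1 hzC.2 u huC).symm)
      have hzB : z ∈ Subgroup.centralizer (B : Set G) :=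
        Subgroup.centralizer_le (fun g hg => hBE hg) hzE
      refine noFour (elemAb_of_le hE hBE) hBc hA' hA'c fun g hg => ?_
      rcases hel g hg with rfl | rfl | rfl | rfl
      · exact one_mem _
      · exact hzB
      · exact huB
      · exact Subgroup.mul_mem _ hzB huB
    have hwz : w * w = z := hsq.resolve_left fun h => four hwC hwB h hwE
    obtain ⟨κ, hκ, hww, hκ2, hκm⟩ := data.comm_val hwC hw'C
    rcases hκ with rfl | rfl
    · rw [one_mul] at hww
      refine absurd hwwE fun hn => four (mul_mem hwC hw'C) (Subgroup.mul_mem _ hwB hw'B) ?_ hn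
      calc w * w' * (w * w') = w * (w' * w) * w' := by group
        _ = w * w * (w' * w') := by rw [← hww]; group
        _ = 1 := by rw [hsq', hwz, hz2]
    · exact ⟨hwz, hww⟩
  obtain ⟨w, w', ⟨hwC, hwB⟩, ⟨hw'C, hw'B⟩, hws, hws', hwE, hw'E, hwwE, hcom⟩ :=
    data.exists_pair hm₁
  obtain ⟨v, v', ⟨hvC, hvB⟩, ⟨hv'C, hv'B⟩, hvs, hvs', hvE, hv'E, hvvE, -⟩ := data.exists_pair hm₂
  obtain ⟨hwz, hww⟩ := pairFacts hc1 hm₁.le hwC hw'C hwB hw'B hws hws' hwE hwwE
  obtain ⟨hvz, hvv⟩ := pairFacts hc2 hm₂.le hvC hv'C hvB hv'B hvs hvs' hvE hvvE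
  obtain ⟨c1, c2⟩ := hcom B₂ hm₂.le hsup v hvC hvB
  obtain ⟨c3, c4⟩ := hcom B₂ hm₂.le hsup v' hv'C hv'B
  set d := w * v with hd
  set d' := w' * v' with hd'
  have hdd : d * d = 1 := by
    calc d * d = w * (v * w) * v := by rw [hd]; group
      _ = w * w * (v * v) := by rw [← c1, hd]; group
      _ = 1 := by rw [hvz, hwz, hz2]
  have hd'd' : d' * d' = 1 := by
    calc d' * d' = w' * (v' * w') * v' := by rw [hd']; group
      _ = w' * w' * (v' * v') := by rw [← c4, hd']; group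
      _ = 1 := by rw [hws', hvs', hvz, hwz, hz2]
  have hcdd : d * d' = d' * d := by
    calc d * d' = w * (v * w') * v' := by rw [hd, hd']; group
      _ = w * w' * (v * v') := by rw [← c2]; group
      _ = z * (w' * w) * (z * (v' * v)) := by rw [hww, hvv]
      _ = z * (w' * w * z) * (v' * v) := by group
      _ = z * z * (w' * (w * v') * v) := by
        rw [← data.center_comm hzC (mul_mem hw'C hwC)]; group
      _ = d' * d := by rw [hz2, one_mul, c3, hd', hd]; group
  have hnot : ∀ {u t : G}, u ∈ Subgroup.centralizer (B₁ : Set G) →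
      t ∈ Subgroup.centralizer (B₂ : Set G) → u ∉ Subgroup.centralizer (E : Set G) →
      u * t ≠ 1 ∧ u * t ≠ z := by
    intro u t hu ht huE
    have key : u ∈ Subgroup.centralizer (B₂ : Set G) → False := fun hu' => by
      refine huE (Subgroup.mem_centralizer_iff.2 fun g hg => ?_)
      have hle : B₁ ⊔ B₂ ≤ Subgroup.centralizer ({u} : Set G) := sup_le
        (fun b hb => Subgroup.mem_centralizer_singleton_iff.2
          (Subgroup.mem_centralizer_iff.1 hu b hb))
        (fun b hb => Subgroup.mem_centralizer_singleton_iff.2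
          (Subgroup.mem_centralizer_iff.1 hu' b hb))
      exact Subgroup.mem_centralizer_singleton_iff.1 (hle (hsup hg))
    constructor
    · intro h
      exact key (eq_inv_of_mul_eq_one_left h ▸ Subgroup.inv_mem _ ht)
    · intro h
      refine key ?_
      rw [show u = z * t⁻¹ by rw [← h, mul_inv_cancel_right]]
      exact Subgroup.mul_mem _ (Subgroup.centralizer_le (fun g hg => hm₂.le hg) hzE)
        (Subgroup.inv_mem _ ht)
  obtain ⟨n1, n2⟩ := hnot hwB hvB hwE
  obtain ⟨n3, n4⟩ := hnot hw'B hv'B hw'E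
  obtain ⟨n5, n6⟩ := hnot (Subgroup.mul_mem _ hwB hw'B) (Subgroup.mul_mem _ hvB hv'B) hwwE
  have hdd' : d * d' = w * w' * (v * v') := by
    rw [hd, hd', show w * v * (w' * v') = w * (v * w') * v' by group, ← c2]; group
  have hdC : d ∈ C := mul_mem hwC hvC
  obtain ⟨A', hA', hA'c, -, -, -, hmin⟩ := exists_eight hz2 hdd hd'd' hz1 n1 n2 n3 n4
    (fun h => n5 (by rw [← hdd', h, hdd]))
    (fun h => n6 (by
      rw [← hdd', h, ← mul_assoc, (Subgroup.mem_centralizer_iff.1 hzC.2 d hdC), mul_assoc, hdd,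
        mul_one]))
    ((Subgroup.mem_centralizer_iff.1 hzC.2 d hdC).symm)
    ((Subgroup.mem_centralizer_iff.1 hzC.2 d' (mul_mem hw'C hv'C)).symm) hcdd
  set B := B₁ ⊓ B₂ with hBdef
  have hcent : A' ≤ Subgroup.centralizer (B : Set G) := by
    have h1 : ∀ g, g ∈ Subgroup.centralizer (B₁ : Set G) → g ∈ Subgroup.centralizer (B : Set G) :=
      fun g hg => Subgroup.centralizer_le (fun b hb => hb.1) hg
    have h2 : ∀ g, g ∈ Subgroup.centralizer (B₂ : Set G) → g ∈ Subgroup.centralizer (B : Set G) :=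
      fun g hg => Subgroup.centralizer_le (fun b hb => hb.2) hg
    exact hmin _ (Subgroup.centralizer_le (fun b hb => hm₁.le hb.1) hzE)
      (Subgroup.mul_mem _ (h1 w hwB) (h2 v hvB)) (Subgroup.mul_mem _ (h1 w' hw'B) (h2 v' hv'B))
  have hBle : Nat.card B₁ ≤ p * Nat.card B :=
    card_le_mul_card_inf hm₁.le hm₂.le hc2
  have hBne : B ≠ ⊥ := fun h => by
    rw [h, Subgroup.card_bot] at hBle
    nlinarith
  have hBel := elemAb_of_le hE (inf_le_left.trans hm₁.le : B ≤ E)
  have hle := bound 2 B A' hBel hBne hA' (by rw [hA'c]; norm_num) hcent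
  obtain ⟨y, a, -, -, -, -, -, hel, hcard, A₀, -, hA₀, hA₀c, hA₀cent⟩ :=
    exists_step hp2 hGp hBel hBne hA' (fun h => by rw [h, Subgroup.card_bot] at hA'c; omega) hcent
  refine noFour hel ?_ hA₀ (by omega) hA₀cent
  rw [hcard, ← mul_assoc]
  refine le_antisymm ?_ ?_
  · nlinarith
  · calc N = p * Nat.card B₁ := hc1.symm
      _ ≤ p * (p * Nat.card B) := Nat.mul_le_mul_left p hBle
      _ = p * p * Nat.card B := (mul_assoc _ _ _).symm

end Cfsg.Agent.H43
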