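import Cfsg.Agent.H59.PSolvable
import Cfsg.Agent.H84.PSolvable
import Cfsg.Agent.H20.Sylow
import Cfsg.Agent.H22.PResidual

/-!
# When a Sylow `p`-subgroup normalises a Sylow `q`-subgroup
-/

namespace Cfsg.Agent.H43

variable {G : Type*} [Group G] [Finite G] {p q : ℕ} [Fact p.Prime] [Fact q.Prime]

/-- `G` has a Sylow `p`-subgroup normalising a Sylow `q`-subgroup. -/
def SylowNormalizes (p q : ℕ) (G : Type*) [Group G] : Prop :=
  ∃ (P : Sylow p G) (Q : Sylow q G),
    (P : Subgroup G) ≤ Subgroup.normalizer ((Q : Subgroup G) : Set G)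

omit [Fact p.Prime] in
theorem sylowNormalizes_of_not_dvd [Fact p.Prime] (hpq : p ≠ q)
    (h : ¬ q ∣ (Cfsg.pPrimeCore p G).index) : SylowNormalizes p q G := by
  haveI := H19.pPrimeCore_normal p G
  set R := Cfsg.pPrimeCore p G
  obtain ⟨P⟩ := Sylow.nonempty (p := p) (G := G)
  obtain ⟨n, hn⟩ := P.2.exists_card_eq
  have hcop : (Nat.card (P : Subgroup G)).Coprime (Nat.card R) := by
    rw [hn]; exact (H19.pPrimeCore_coprime p).symm.pow_left n
  obtain ⟨Q, hQR, hQA, hQp, hQc⟩ := H20.exists_invariant_sylow_subgroup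
    (A := (P : Subgroup G)) (K := R) (by rw [Subgroup.normalizer_eq_top]; exact le_top) hcop
    (Or.inl (H20.isSolvable_of_isPGroup P.2)) q
  have hf : (Nat.card R).factorization q = (Nat.card G).factorization q := by
    rw [← R.card_mul_index, Nat.factorization_mul Nat.card_pos.ne' Subgroup.index_ne_zero_of_finite,
      Finsupp.add_apply, Nat.factorization_eq_zero_of_not_dvd h, add_zero]
  exact ⟨P, Sylow.ofCard Q (by rw [hQc, hf]), hQA⟩

theorem not_dvd_of_sylowNormalizes (hpq : p ≠ q) (hG : Cfsg.IsPSolvable p G)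
    (h : SylowNormalizes p q G) : ¬ q ∣ (Cfsg.pPrimeCore p G).index := by
  haveI := H19.pPrimeCore_normal p G
  obtain ⟨P, Q, hPQ⟩ := h
  set π := QuotientGroup.mk' (Cfsg.pPrimeCore p G)
  have hπ : Function.Surjective π := QuotientGroup.mk'_surjective _
  haveI := H19.pCore_normal p (G ⧸ Cfsg.pPrimeCore p G)
  set V := Cfsg.pCore p (G ⧸ Cfsg.pPrimeCore p G) with hV
  have hcent := H59.centralizer_pCore_le_of_isPSolvable
    (H84.isPSolvable_of_surjective π hπ hG) (H19.pPrimeCore_quotient_pPrimeCore p)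
  set P' := P.mapSurjective hπ
  set Q' := Q.mapSurjective hπ
  have hVP : V ≤ (P' : Subgroup _) := by
    obtain ⟨R, hR⟩ := (show IsPGroup p V from H19.pCore_isPGroup p).exists_le_sylow
    obtain ⟨g, hg⟩ := MulAction.exists_smul_eq (G ⧸ Cfsg.pPrimeCore p G) R P'
    intro v hv
    rw [← hg]
    show v ∈ ((g • R : Sylow p _) : Subgroup _)
    rw [Sylow.coe_subgroup_smul, H20.mem_conj_smul]
    refine hR ?_
    simpa using Subgroup.Normal.conj_mem (inferInstance : V.Normal) v hv g⁻¹
  have hVQ : V ≤ Subgroup.normalizer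
      (((Q' : Subgroup (G ⧸ Cfsg.pPrimeCore p G))) : Set (G ⧸ Cfsg.pPrimeCore p G)) := by
    rw [Sylow.coe_mapSurjective]
    refine hVP.trans ?_
    rw [Sylow.coe_mapSurjective]
    exact (Subgroup.map_mono hPQ).trans (Subgroup.le_normalizer_map π)
  have hQV : (Q' : Subgroup _) ≤ V := by
    refine le_trans (fun y hy => Subgroup.mem_centralizer_iff.mpr fun v hv => ?_) hcent
    have h1 : v * y * v⁻¹ * y⁻¹ ∈ (Q' : Subgroup _) :=
      Subgroup.mul_mem _ ((Subgroup.mem_normalizer_iff.mp (hVQ hv) y).mp hy) (Subgroup.inv_mem _ hy)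
    have h2 : v * y * v⁻¹ * y⁻¹ ∈ V := by
      rw [show v * y * v⁻¹ * y⁻¹ = v * (y * v⁻¹ * y⁻¹) by group]
      exact V.mul_mem hv (Subgroup.Normal.conj_mem inferInstance _ (V.inv_mem hv) y)
    have h3 := disjoint_iff.mp (IsPGroup.disjoint_of_ne p q hpq _ _ (H19.pCore_isPGroup p) Q'.2)
    have h4 : v * y * v⁻¹ * y⁻¹ = 1 := Subgroup.mem_bot.mp (h3 ▸ ⟨h2, h1⟩)
    have h5 := mul_inv_eq_one.mp h4
    exact mul_inv_eq_iff_eq_mul.mp h5
  have hQ1 : (Q' : Subgroup (G ⧸ Cfsg.pPrimeCore p G)) = ⊥ := by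
    rw [← inf_eq_right.mpr hQV]
    exact disjoint_iff.mp (IsPGroup.disjoint_of_ne p q hpq _ _ (H19.pCore_isPGroup p) Q'.2)
  have h6 := Q'.not_dvd_index
  rwa [hQ1, Subgroup.index_bot, ← Subgroup.index_eq_card] at h6

/-- No `q`-element has class size divisible by `p`. -/
def GoodClasses (p q : ℕ) (G : Type*) [Group G] : Prop :=
  ∀ y : G, (∃ k : ℕ, orderOf y = q ^ k) → ¬ p ∣ (Subgroup.centralizer ({y} : Set G)).index

omit [Fact p.Prime] in
theorem goodClasses_quotient (h : GoodClasses p q G) (N : Subgroup G) [N.Normal] :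
    GoodClasses p q (G ⧸ N) := by
  rintro y ⟨k, hk⟩ hdvd
  obtain ⟨x, rfl⟩ := QuotientGroup.mk_surjective y
  -- replace `x` by its `q`-part
  set o := orderOf x with ho
  have hdiv : q ^ k ∣ o := hk ▸ orderOf_map_dvd (QuotientGroup.mk' N) x
  set a := o.factorization q
  set r := o / q ^ a
  have hr : r.Coprime q := (Nat.coprime_ordCompl (Fact.out : q.Prime) (orderOf_pos x).ne').symm
  obtain ⟨u, hu1, hu2⟩ : ∃ u, u ≡ 0 [MOD r] ∧ u ≡ 1 [MOD q ^ a] :=
    ⟨_, (Nat.chineseRemainder (hr.pow_right a) 0 1).2⟩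
  have hox : (x ^ u) ^ q ^ a = 1 := by
    rw [← pow_mul, ← orderOf_dvd_iff_pow_eq_one, ← ho, ← Nat.ordProj_mul_ordCompl_eq_self o q,
      mul_comm u]
    exact Nat.mul_dvd_mul_left _ (Nat.modEq_zero_iff_dvd.mp hu1)
  obtain ⟨j, -, hj⟩ := (Nat.dvd_prime_pow (Fact.out : q.Prime)).mp
    (orderOf_dvd_of_pow_eq_one hox)
  have hk_le : k ≤ a := by
    rw [← Nat.Prime.pow_dvd_iff_le_factorization (Fact.out : q.Prime) (orderOf_pos x).ne']
    exact hdiv
  have hmk : ((x ^ u : G) : G ⧸ N) = (x : G ⧸ N) := by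
    rw [QuotientGroup.mk_pow]
    conv_rhs => rw [← pow_one (x : G ⧸ N)]
    exact pow_eq_pow_iff_modEq.mpr (hu2.of_dvd (hk ▸ pow_dvd_pow q hk_le))
  refine h (x ^ u) ⟨j, hj⟩ (hdvd.trans ?_)
  refine Dvd.dvd.trans (Subgroup.index_dvd_of_le
    (H := (Subgroup.centralizer ({x ^ u} : Set G)).map (QuotientGroup.mk' N)) ?_)
    (Subgroup.index_map_dvd _ (QuotientGroup.mk'_surjective N))
  rintro _ ⟨c, hc, rfl⟩
  rw [Subgroup.mem_centralizer_singleton_iff, ← hmk]
  show ((c : G) : G ⧸ N) * ((x ^ u : G) : G ⧸ N) = ((x ^ u : G) : G ⧸ N) * ((c : G) : G ⧸ N)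
  rw [← QuotientGroup.mk_mul, ← QuotientGroup.mk_mul, Subgroup.mem_centralizer_singleton_iff.mp hc]

/-- A `q`-element centralises a Sylow `p`-subgroup. -/
theorem exists_sylow_le_centralizer {y : G}
    (h : ¬ p ∣ (Subgroup.centralizer ({y} : Set G)).index) :
    ∃ P : Sylow p G, (P : Subgroup G) ≤ Subgroup.centralizer ({y} : Set G) := by
  set C := Subgroup.centralizer ({y} : Set G)
  obtain ⟨P₀⟩ := Sylow.nonempty (p := p) (G := C)
  refine ⟨Sylow.ofCard ((P₀ : Subgroup C).map C.subtype) ?_, Subgroup.map_subtype_le _⟩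
  rw [Subgroup.card_map_of_injective C.subtype_injective, P₀.card_eq_multiplicity,
    ← C.card_mul_index, Nat.factorization_mul Nat.card_pos.ne' Subgroup.index_ne_zero_of_finite,
    Finsupp.add_apply, Nat.factorization_eq_zero_of_not_dvd h, add_zero]

theorem not_dvd_of_goodClasses (hpq : p ≠ q) (hG : Cfsg.IsPSolvable p G)
    (h : GoodClasses p q G) : ¬ q ∣ (Cfsg.pPrimeCore p G).index := by
  haveI := H19.pPrimeCore_normal p G
  haveI := H19.pCore_normal p (G ⧸ Cfsg.pPrimeCore p G)
  intro hdvd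
  rw [Subgroup.index_eq_card] at hdvd
  obtain ⟨y, hy⟩ := exists_prime_orderOf_dvd_card' q hdvd
  obtain ⟨P, hP⟩ := exists_sylow_le_centralizer
    (goodClasses_quotient h (Cfsg.pPrimeCore p G) y ⟨1, by rw [hy, pow_one]⟩)
  have hcent := H59.centralizer_pCore_le_of_isPSolvable
    (H84.isPSolvable_of_surjective (QuotientGroup.mk' (Cfsg.pPrimeCore p G))
      (QuotientGroup.mk'_surjective _) hG) (H19.pPrimeCore_quotient_pPrimeCore p)
  set V := Cfsg.pCore p (G ⧸ Cfsg.pPrimeCore p G) with hV
  have hVP : V ≤ (P : Subgroup _) := by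
    obtain ⟨R, hR⟩ := (show IsPGroup p V from H19.pCore_isPGroup p).exists_le_sylow
    obtain ⟨g, hg⟩ := MulAction.exists_smul_eq (G ⧸ Cfsg.pPrimeCore p G) R P
    intro v hv
    rw [← hg]
    show v ∈ ((g • R : Sylow p _) : Subgroup _)
    rw [Sylow.coe_subgroup_smul, H20.mem_conj_smul]
    refine hR ?_
    simpa using Subgroup.Normal.conj_mem (inferInstance : V.Normal) v hv g⁻¹
  have hyV : y ∈ V := hcent (Subgroup.mem_centralizer_iff.mpr fun v hv =>
    Subgroup.mem_centralizer_singleton_iff.mp (hP (hVP hv)))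
  obtain ⟨k, hk⟩ := (H19.pCore_isPGroup p (G := G ⧸ Cfsg.pPrimeCore p G)) ⟨y, hyV⟩
  have hk' : y ^ p ^ k = 1 := congrArg Subtype.val hk
  have h1 : q ∣ p ^ k := hy ▸ orderOf_dvd_of_pow_eq_one hk'
  exact hpq ((Nat.prime_dvd_prime_iff_eq Fact.out Fact.out).mp
    ((Fact.out : q.Prime).dvd_of_dvd_pow h1)).symm

universe u

/-- The `q`-solvable case. -/
theorem sylowNormalizes_of_qSolvable (hpq : p ≠ q) :
    ∀ (n : ℕ) {G : Type u} [Group G] [Finite G], Nat.card G = n → Cfsg.IsPSolvable q G →
      GoodClasses p q G → SylowNormalizes p q G := by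
  intro n
  induction n using Nat.strong_induction_on with
  | _ n ih =>
    intro G _ _ hn hG h
    subst hn
    obtain ⟨P₀⟩ := Sylow.nonempty (p := p) (G := G)
    obtain ⟨Q₀⟩ := Sylow.nonempty (p := q) (G := G)
    rcases subsingleton_or_nontrivial G with hs | hs
    · exact ⟨P₀, Q₀, fun x _ => Subgroup.le_normalizer (by
        rw [Subsingleton.elim x 1]; exact one_mem _)⟩
    rcases H84.pCore_ne_bot_or_pPrimeCore_ne_bot hG with hne | hne
    · haveI := H19.pCore_normal q G
      set V := Cfsg.pCore q G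
      set π := QuotientGroup.mk' V
      have hπ : Function.Surjective π := QuotientGroup.mk'_surjective V
      have hlt : Nat.card (G ⧸ V) < Nat.card G := by
        rw [Subgroup.card_eq_card_quotient_mul_card_subgroup V]
        exact lt_mul_of_one_lt_right Nat.card_pos ((Subgroup.one_lt_card_iff_ne_bot V).mpr hne)
      obtain ⟨P', Q', hPQ⟩ := ih _ hlt rfl (H84.isPSolvable_of_surjective π hπ hG)
        (goodClasses_quotient h V)
      obtain ⟨P, rfl⟩ := Sylow.mapSurjective_surjective hπ p P'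
      obtain ⟨Q, rfl⟩ := Sylow.mapSurjective_surjective hπ q Q'
      refine ⟨P, Q, fun x hx => ?_⟩
      have hVQ : V ≤ (Q : Subgroup G) := by
        obtain ⟨R, hR⟩ := (show IsPGroup q V from H19.pCore_isPGroup q).exists_le_sylow
        obtain ⟨g, hg⟩ := MulAction.exists_smul_eq G R Q
        intro v hv
        rw [← hg]
        show v ∈ ((g • R : Sylow q G) : Subgroup G)
        rw [Sylow.coe_subgroup_smul, H20.mem_conj_smul]
        exact hR (by simpa using Subgroup.Normal.conj_mem (inferInstance : V.Normal) v hv g⁻¹)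
      have hQ : ((Q : Subgroup G).map π).comap π = (Q : Subgroup G) := by
        rw [Subgroup.comap_map_eq, QuotientGroup.ker_mk', sup_eq_left.mpr hVQ]
      have h1 : π x ∈ Subgroup.normalizer (((Q : Subgroup G).map π : Subgroup _) : Set (G ⧸ V)) :=
        hPQ ⟨x, hx, rfl⟩
      have h2 : x ∈ (Subgroup.normalizer (((Q : Subgroup G).map π : Subgroup _) :
        Set (G ⧸ V))).comap π := h1
      rwa [Subgroup.comap_normalizer_eq_of_surjective _ hπ, hQ] at h2
    · haveI := H19.pPrimeCore_normal q G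
      set R := Cfsg.pPrimeCore q G
      set π := QuotientGroup.mk' R
      have hπ : Function.Surjective π := QuotientGroup.mk'_surjective R
      have hlt : Nat.card (G ⧸ R) < Nat.card G := by
        rw [Subgroup.card_eq_card_quotient_mul_card_subgroup R]
        exact lt_mul_of_one_lt_right Nat.card_pos ((Subgroup.one_lt_card_iff_ne_bot R).mpr hne)
      obtain ⟨P', Q', hPQ⟩ := ih _ hlt rfl (H84.isPSolvable_of_surjective π hπ hG)
        (goodClasses_quotient h R)
      obtain ⟨P, rfl⟩ := Sylow.mapSurjective_surjective hπ p P'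
      obtain ⟨Q, rfl⟩ := Sylow.mapSurjective_surjective hπ q Q'
      set K : Subgroup G := ((Q : Subgroup G).map π).comap π with hK
      have hQK : (Q : Subgroup G) ≤ K := Subgroup.le_comap_map _ _
      have hRK : R ≤ K := fun r hr => ⟨1, one_mem _, by
        rw [map_one]; exact ((QuotientGroup.eq_one_iff r).mpr hr).symm⟩
      have hPK : (P : Subgroup G) ≤ Subgroup.normalizer (K : Set G) := fun x hx => by
        have h1 : π x ∈ Subgroup.normalizer (((Q : Subgroup G).map π : Subgroup _) : Set (G ⧸ R)) :=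
          hPQ ⟨x, hx, rfl⟩
        have h2 : x ∈ (Subgroup.normalizer (((Q : Subgroup G).map π : Subgroup _) :
          Set (G ⧸ R))).comap π := h1
        rwa [Subgroup.comap_normalizer_eq_of_surjective _ hπ] at h2
      -- a Sylow `p`-subgroup of `R` centralised by `Q`
      have hQR : (Q : Subgroup G) ≤ Subgroup.normalizer (R : Set G) := by
        rw [Subgroup.normalizer_eq_top]; exact le_top
      obtain ⟨m, hm⟩ := Q.2.exists_card_eq
      have hcopQR : (Nat.card (Q : Subgroup G)).Coprime (Nat.card R) := by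
        rw [hm]; exact (H19.pPrimeCore_coprime q).symm.pow_left m
      obtain ⟨T, hTR, hTQ, hTp, hTc⟩ := H20.exists_invariant_sylow_subgroup hQR hcopQR
        (Or.inl (H20.isSolvable_of_isPGroup Q.2)) p
      have hTcent : (Q : Subgroup G) ≤ Subgroup.centralizer (T : Set G) := by
        intro y hy
        obtain ⟨j, hj⟩ : ∃ j, orderOf y = q ^ j := by
          obtain ⟨j, hj⟩ := IsPGroup.iff_orderOf.mp Q.2 ⟨y, hy⟩
          exact ⟨j, by rw [← hj, Subgroup.orderOf_mk]⟩
        obtain ⟨P₁, hP₁⟩ := exists_sylow_le_centralizer (h y ⟨j, hj⟩)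
        set T₁ := (P₁ : Subgroup G) ⊓ R
        have hT₁c : Nat.card T₁ = p ^ (Nat.card R).factorization p := by
          have h2 : ¬ p ∣ (P₁ : Subgroup G).relIndex R := H22.sylow_not_dvd_relIndex_normal P₁ R
          have h3 : Nat.card T₁ * (P₁ : Subgroup G).relIndex R = Nat.card R := by
            rw [← Subgroup.inf_relIndex_right,
              ← Nat.card_congr (Subgroup.subgroupOfEquivOfLe (inf_le_right : T₁ ≤ R)).toEquiv]
            exact (T₁.subgroupOf R).card_mul_index
          obtain ⟨i, hi⟩ := (P₁.2.to_le (inf_le_left : T₁ ≤ _)).exists_card_eq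
          rw [← h3, hi, Nat.factorization_mul (pow_ne_zero _ (Fact.out : p.Prime).ne_zero)
            (fun h0 => by rw [h0, mul_zero] at h3; exact Nat.card_pos.ne' h3.symm),
            Finsupp.add_apply, Nat.Prime.factorization_pow Fact.out, Finsupp.single_eq_same,
            Nat.factorization_eq_zero_of_not_dvd h2, add_zero]
        have hZy : Subgroup.zpowers y ≤ (Q : Subgroup G) := Subgroup.zpowers_le.mpr hy
        have hyT₁ : Subgroup.zpowers y ≤ Subgroup.normalizer (T₁ : Set G) := by
          refine H20.le_normalizer_of_le_centralizer (Subgroup.zpowers_le.mpr ?_)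
          exact Subgroup.mem_centralizer_iff.mpr fun t ht =>
            Subgroup.mem_centralizer_singleton_iff.mp (hP₁ ht.1)
        obtain ⟨c, ⟨-, hc⟩, hconj⟩ := H20.invariant_sylow_subgroup_conj (hZy.trans hQR)
          (hcopQR.coprime_dvd_left (Subgroup.card_dvd_of_le hZy))
          (Or.inl (H20.isSolvable_of_isPGroup (Q.2.to_le hZy))) inf_le_right hTR hT₁c hTc
          hyT₁ (hZy.trans hTQ)
        refine Subgroup.mem_centralizer_iff.mpr fun t ht => ?_
        rw [← hconj, SetLike.mem_coe, H20.mem_conj_smul] at ht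
        have hcy : Commute c y :=
          (Subgroup.mem_centralizer_iff.mp hc y (Subgroup.mem_zpowers y)).symm
        have hty : Commute (c⁻¹ * t * c) y := Subgroup.mem_centralizer_singleton_iff.mp (hP₁ ht.1)
        have h4 : Commute (c * (c⁻¹ * t * c) * c⁻¹) y := (hcy.mul_left hty).mul_left hcy.inv_left
        rw [show c * (c⁻¹ * t * c) * c⁻¹ = t by group] at h4
        exact h4.eq
      -- count the Sylow `q`-subgroups of `K`
      set QK : Sylow q K := Q.subtype hQK
      have hTN : T.subgroupOf K ≤ Subgroup.normalizer ((QK : Subgroup K) : Set K) := by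
        intro t ht
        refine Subgroup.mem_normalizer_iff.mpr fun y => ?_
        have hcomm : ∀ z ∈ (Q : Subgroup G), Commute (t : G) z := fun z hz =>
          Subgroup.mem_centralizer_iff.mp (hTcent hz) (t : G) ht
        show (y : G) ∈ (Q : Subgroup G) ↔ ((t : G) * (y : G) * (t : G)⁻¹) ∈ (Q : Subgroup G)
        refine ⟨fun hy => by rwa [(hcomm _ hy).eq, mul_inv_cancel_right], fun hy => ?_⟩
        have h5 := hcomm _ hy
        have h6 : (y : G) = (t : G) * (y : G) * (t : G)⁻¹ := by
          have e : (t : G) * ((t : G) * y * (t : G)⁻¹) = (t : G) * y * (t : G)⁻¹ * t := h5.eq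
          rw [inv_mul_cancel_right] at e
          exact (mul_left_cancel e).symm
        rwa [h6]
      have hcount : ¬ p ∣ Nat.card (Sylow q K) := by
        rw [Sylow.card_eq_index_normalizer QK]
        intro hd
        have h1 : p ∣ T.relIndex K := hd.trans (Subgroup.index_dvd_of_le hTN)
        rw [← Subgroup.relIndex_mul_relIndex T R K hTR hRK] at h1
        rcases (Fact.out : p.Prime).dvd_mul.mp h1 with h2 | h2
        · have h3 : Nat.card T * T.relIndex R = Nat.card R := by
            rw [← Nat.card_congr (Subgroup.subgroupOfEquivOfLe hTR).toEquiv]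
            exact (T.subgroupOf R).card_mul_index
          have h4 : T.relIndex R = Nat.card R / p ^ (Nat.card R).factorization p := by
            rw [← hTc, ← h3, Nat.mul_div_cancel_left _ Nat.card_pos]
          exact (Fact.out : p.Prime).coprime_iff_not_dvd.mp
            (Nat.coprime_ordCompl Fact.out Nat.card_pos.ne') (h4 ▸ h2)
        · rw [show R.relIndex K = Nat.card (K.map π) by
            rw [← Subgroup.relIndex_ker, QuotientGroup.ker_mk'],
            Subgroup.map_comap_eq_self_of_surjective hπ] at h2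
          have h3 := h2.trans (Subgroup.card_map_dvd _ π)
          rw [hm] at h3
          exact hpq ((Nat.prime_dvd_prime_iff_eq Fact.out Fact.out).mp
            ((Fact.out : p.Prime).dvd_of_dvd_pow h3))
      let α : (P : Subgroup G) →* MulAut K :=
        K.normalizerMonoidHom.comp (Subgroup.inclusion hPK)
      letI : MulAction (P : Subgroup G) (Sylow q K) := MulAction.compHom _ α
      obtain ⟨QQ, hfix⟩ :=
        P.2.nonempty_fixed_point_of_prime_not_dvd_card (Sylow q K) hcount
      refine ⟨P, Sylow.ofCard ((QQ : Subgroup K).map K.subtype) ?_, fun x hx => ?_⟩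
      · rw [Subgroup.card_map_of_injective K.subtype_injective,
          show Nat.card (QQ : Subgroup K) = Nat.card (QK : Subgroup K) by
            rw [QQ.card_eq_multiplicity, QK.card_eq_multiplicity],
          Sylow.coe_subtype, Nat.card_congr (Subgroup.subgroupOfEquivOfLe hQK).toEquiv,
          Q.card_eq_multiplicity]
      · refine Subgroup.mem_normalizer_iff_map_conj_eq.mpr ?_
        have h1 : α ⟨x, hx⟩ • QQ = QQ := hfix ⟨x, hx⟩
        have h2 := congrArg (fun S : Sylow q K => (S : Subgroup K).map K.subtype) h1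
        show ((QQ : Subgroup K).map K.subtype).map (MulAut.conj x).toMonoidHom = _
        refine Eq.trans ?_ h2
        rw [Subgroup.map_map]
        exact Eq.trans rfl (Subgroup.map_map (QQ : Subgroup K) K.subtype (α ⟨x, hx⟩).toMonoidHom).symm

end Cfsg.Agent.H43
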